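import Groth.Agent.Lib.LCFin.CdDualizing

/-!
# Adically complete domains have no isolated branches
-/

universe u

open CategoryTheory CategoryTheory.Limits Opposite
open scoped TensorProduct

namespace Groth.Agent.Lib.ProZero.NoBranch

open Groth.Agent.Lib.LocalCoh Groth.Agent.Lib.LCFin.CdDualizing Groth.Agent.Lib.LCFin.Cd

variable {A : Type u} [CommRing A] [IsLocalRing A] [IsNoetherianRing A]

local notation "𝔪" => IsLocalRing.maximalIdeal A

/-- The torsion submodules of the `A/I^k` form a pro-zero system. -/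
theorem torsion_proZero [IsDomain A] (I : Ideal A) [IsAdicComplete I A] {r : PrimeSpectrum A}
    (hIr : I ≤ r.asIdeal) (hr : r.asIdeal ≠ IsLocalRing.maximalIdeal A) (k : ℕ) :
    ∃ k', ∃ hk : k ≤ k', ∀ y ∈ DRing.torsionSub 𝔪 (A ⧸ I ^ k'),
      Submodule.factor (Ideal.pow_le_pow_right (I := I) hk) y = 0 := by
  classical
  let π : ∀ {n l : ℕ}, n ≤ l → (A ⧸ I ^ l) →ₗ[A] A ⧸ I ^ n := fun h =>
    Submodule.factor (Ideal.pow_le_pow_right h)
  have hπ : ∀ {a b c : ℕ} (h : a ≤ b) (h' : b ≤ c) (x : A ⧸ I ^ c),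
      π h (π h' x) = π (h.trans h') x := fun h h' x => by
    obtain ⟨x, rfl⟩ := Submodule.Quotient.mk_surjective _ x
    rfl
  let G : ∀ n : ℕ, Submodule A (A ⧸ I ^ n) := fun n => DRing.torsionSub 𝔪 (A ⧸ I ^ n)
  have hstab : ∀ n, ∃ (l : ℕ) (hl : n ≤ l), ∀ (l' : ℕ) (hl' : l ≤ l'),
      Submodule.map (π hl) (G l) ≤ Submodule.map (π (hl.trans hl')) (G l') := by
    intro n
    have hart : IsArtinian A (G n) := InjHull.Artinian.isArtinian_of_isPowerTorsion_of_isNoetherian 𝔪
      (IsNoetherian.noetherian _) (G n) fun x => by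
        obtain ⟨c, hc⟩ := x.2
        exact ⟨c, fun a ha => Subtype.ext (hc a ha)⟩
    let f : ℕ →o (Submodule A (G n))ᵒᵈ :=
      ⟨fun l => OrderDual.toDual ((Submodule.map (π (Nat.le_add_right n l)) (G (n + l))).comap
        (G n).subtype), fun a b hab x hx => by
          obtain ⟨z, hz, hzx⟩ := hx
          refine ⟨π (Nat.add_le_add_left hab n) z, DRing.map_mem_torsionSub _ _ hz, ?_⟩
          exact (hπ (Nat.le_add_right n a) (Nat.add_le_add_left hab n) z).trans hzx⟩
    obtain ⟨l, hl⟩ := IsArtinian.monotone_stabilizes f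
    refine ⟨n + l, Nat.le_add_right n l, fun l' hl' => ?_⟩
    obtain ⟨l'', rfl⟩ := Nat.exists_eq_add_of_le ((Nat.le_add_right n l).trans hl')
    rintro _ ⟨z, hz, rfl⟩
    have hmem : π (Nat.le_add_right n l) z ∈ G n := DRing.map_mem_torsionSub _ _ hz
    have h1 : (⟨_, hmem⟩ : G n) ∈ OrderDual.ofDual (f l) := ⟨z, hz, rfl⟩
    rw [hl l'' (by omega)] at h1
    exact h1
  choose μ hμ hstab' using hstab
  let S : ∀ n, Submodule A (A ⧸ I ^ n) := fun n => Submodule.map (π (hμ n)) (G (μ n))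
  have hsurj : ∀ n, ∀ y ∈ S n, ∃ y' ∈ S (n + 1), π (Nat.le_succ n) y' = y := by
    intro n y hy
    obtain ⟨z, hz, rfl⟩ := hstab' n (max (μ n) (μ (n + 1))) (le_max_left _ _) hy
    refine ⟨π ((hμ (n + 1)).trans (le_max_right (μ n) _)) z, ?_,
      hπ (Nat.le_succ n) ((hμ (n + 1)).trans (le_max_right (μ n) _)) z⟩
    exact ⟨π (le_max_right (μ n) _) z, DRing.map_mem_torsionSub _ _ hz,
      hπ (hμ (n + 1)) (le_max_right (μ n) _) z⟩
  refine ⟨μ k, hμ k, fun y hy => ?_⟩
  by_contra hy0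
  have h0 : π (hμ k) y ∈ S k := ⟨y, hy, rfl⟩
  let ys : ∀ j : ℕ, {z : A ⧸ I ^ (k + j) // z ∈ S (k + j)} := fun j =>
    Nat.rec ⟨π (hμ k) y, h0⟩ (fun j w => ⟨_, (hsurj _ w.1 w.2).choose_spec.1⟩) j
  have hys : ∀ j, π (Nat.le_succ (k + j)) (ys (j + 1)).1 = (ys j).1 := fun j =>
    (hsurj _ (ys j).1 (ys j).2).choose_spec.2
  choose xs hxs using fun j => Submodule.Quotient.mk_surjective _ (ys j).1
  have hcompat : ∀ {a b : ℕ}, a ≤ b → xs a - xs b ∈ I ^ (k + a) := by
    intro a b hab
    induction b, hab using Nat.le_induction with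
    | base => simp
    | succ b hab ih =>
      have h1 : xs b - xs (b + 1) ∈ I ^ (k + b) := by
        rw [← Ideal.Quotient.eq]
        have := hys b
        rw [← hxs, ← hxs] at this
        exact this.symm
      have := add_mem ih (Ideal.pow_le_pow_right (Nat.add_le_add_left hab k) h1)
      rwa [sub_add_sub_cancel] at this
  obtain ⟨L, hL⟩ := IsPrecomplete.prec (I := I) (M := A) inferInstance (f := xs) fun {a b} hab => by
    rw [SModEq.sub_mem, smul_eq_mul, Ideal.mul_top]
    exact Ideal.pow_le_pow_right (Nat.le_add_left a k) (hcompat hab)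
  have hLj : ∀ j, L - xs j ∈ I ^ (k + j) := fun j => by
    have h1 := hL (k + j)
    rw [SModEq.sub_mem, smul_eq_mul, Ideal.mul_top] at h1
    have h2 : xs j - xs (k + j) ∈ I ^ (k + j) := hcompat (Nat.le_add_left j k)
    have := add_mem h2 h1
    rw [sub_add_sub_cancel] at this
    exact (Submodule.neg_mem_iff _).1 (by rwa [neg_sub])
  obtain ⟨s, hs, hsr⟩ : ∃ s ∈ 𝔪, s ∉ r.asIdeal := SetLike.not_le_iff_exists.1 fun h =>
    hr (le_antisymm (IsLocalRing.le_maximalIdeal r.isPrime.ne_top) h)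
  let Rr := Localization.AtPrime r.asIdeal
  have hinf : algebraMap A Rr L ∈ ⨅ j, (I.map (algebraMap A Rr)) ^ j := by
    refine (Submodule.mem_iInf _).2 fun j => ?_
    obtain ⟨w, hw, hwy⟩ := (ys j).2
    obtain ⟨c, hc⟩ := DRing.map_mem_torsionSub _ (π (hμ (k + j))) hw
    rw [hwy, ← hxs] at hc
    have h1 : s ^ c * L ∈ I ^ (k + j) := by
      have h2 : s ^ c * xs j ∈ I ^ (k + j) := by
        rw [← Ideal.Quotient.eq_zero_iff_mem]
        exact hc _ (Ideal.pow_mem_pow hs c)
      have := add_mem (Ideal.mul_mem_left _ (s ^ c) (hLj j)) h2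
      rwa [mul_sub, sub_add_cancel] at this
    have hu : IsUnit (algebraMap A Rr (s ^ c)) := IsLocalization.map_units Rr
      (⟨s ^ c, fun h => hsr (r.isPrime.mem_of_pow_mem c h)⟩ : r.asIdeal.primeCompl)
    rw [← Ideal.map_pow]
    refine Ideal.mem_of_dvd _ ?_ (Ideal.mem_map_of_mem _
      (Ideal.pow_le_pow_right (Nat.le_add_left j k) h1))
    rw [map_mul]
    exact (hu.mul_left_dvd).2 dvd_rfl
  rw [Ideal.iInf_pow_eq_bot_of_isLocalRing _ (fun h => by
    have := (Ideal.map_mono (f := algebraMap A Rr) hIr).trans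
      (IsLocalization.AtPrime.map_eq_maximalIdeal r.asIdeal Rr).le
    rw [h, top_le_iff] at this
    exact (IsLocalRing.maximalIdeal.isMaximal Rr).ne_top this), Submodule.mem_bot] at hinf
  have hL0 : L = 0 :=
    IsLocalization.injective Rr (show r.asIdeal.primeCompl ≤ nonZeroDivisors A from
      fun x hx => mem_nonZeroDivisors_of_ne_zero fun h => hx (h ▸ r.asIdeal.zero_mem))
      (hinf.trans (map_zero _).symm)
  refine hy0 ?_
  have h3 : xs 0 ∈ I ^ (k + 0) := by
    have := hLj 0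
    rwa [hL0, zero_sub, Submodule.neg_mem_iff] at this
  have h4 := (Ideal.Quotient.eq_zero_iff_mem.2 h3).symm.trans (hxs 0)
  exact h4.symm

/-- Top local cohomology of a complete domain vanishes. -/
theorem subsingleton_top [IsDomain A] (I : Ideal A) [IsAdicComplete I A] {r : PrimeSpectrum A}
    (hIr : I ≤ r.asIdeal) (hr : r.asIdeal ≠ IsLocalRing.maximalIdeal A) {n : ℕ}
    (hdim : ringKrullDim A = n) : Subsingleton (LocCoh.H I n A) := by
  by_contra hnt
  rw [not_subsingleton_iff_nontrivial] at hnt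
  let S := AdicCompletion 𝔪 A
  obtain ⟨P, hP, hrad⟩ := exists_prime_of_nontrivial I hdim hnt
  have hm : 𝔪 ≠ ⊤ := Ideal.IsMaximal.ne_top inferInstance
  have : Module.Flat A S := AdicCompletion.flat_of_isNoetherian _
  have hass : P ∈ associatedPrimes S S :=
    Module.associatedPrimes.minimalPrimes_annihilator_subset_associatedPrimes S S (by
      rw [Module.annihilator_eq_bot.2 inferInstance]; exact hP)
  obtain ⟨hPprime, z, hz⟩ := (isAssociatedPrime_iff (I := P)).1 hass
  let IS : Ideal S := I.map (algebraMap A S)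
  obtain ⟨N, hN⟩ := Ideal.exists_pow_le_of_le_radical_of_fg hrad.ge (IsNoetherian.noetherian _)
  have hzero : ∀ k, z ∈ IS ^ k := fun k => by
    obtain ⟨k', hk, hk'⟩ := torsion_proZero I hIr hr k
    have hker : z ⊗ₜ[A] (1 : A ⧸ I ^ k') ∈
        DRing.torsionSub ((IsLocalRing.maximalIdeal A).map (algebraMap A S)) (S ⊗[A] (A ⧸ I ^ k')) := by
      refine ⟨N * (k' + 1), fun a ha => ?_⟩
      rw [← AdicCompletion.maximalIdeal_eq_map, pow_mul] at ha
      have ha' : a ∈ IS ^ k' ⊔ P := by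
        have := Ideal.pow_right_mono hN _ ha
        have h2 : (IS ⊔ P) ^ (k' + 1) ≤ IS ^ k' ⊔ P :=
          Ideal.sup_pow_add_le_pow_sup_pow.trans (sup_le_sup_left (pow_one P).le _)
        exact h2 this
      obtain ⟨b, hb, q, hq, rfl⟩ := Submodule.mem_sup.1 ha'
      have hqz : q * z = 0 := by
        have := hz ▸ hq
        rwa [Submodule.mem_colon_singleton, Submodule.mem_bot, smul_eq_mul] at this
      rw [TensorProduct.smul_tmul', smul_eq_mul, add_mul, hqz, add_zero]
      have hb' : b * z ∈ IS ^ k' := Ideal.mul_mem_right _ _ hb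
      rw [show IS ^ k' = (I ^ k').map (algebraMap A S) from (Ideal.map_pow _ _ _).symm, Ideal.map]
        at hb'
      generalize b * z = bz at hb' ⊢
      induction hb' using Submodule.span_induction with
      | mem x hx =>
        obtain ⟨x, hx', rfl⟩ := hx
        rw [Algebra.algebraMap_eq_smul_one, TensorProduct.smul_tmul,
          show x • (1 : A ⧸ I ^ k') = 0 by
            rw [Algebra.smul_def, mul_one]; exact Ideal.Quotient.eq_zero_iff_mem.2 hx',
          TensorProduct.tmul_zero]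
      | zero => exact TensorProduct.zero_tmul _ _
      | add x y _ _ hx hy => rw [TensorProduct.add_tmul, hx, hy, add_zero]
      | smul c x _ hx => rw [← TensorProduct.smul_tmul', hx, smul_zero]
    rw [← range_baseChange_torsionSub S (IsLocalRing.maximalIdeal A) (A ⧸ I ^ k')] at hker
    obtain ⟨w, hw⟩ := hker
    let π : A ⧸ I ^ k' →ₗ[A] A ⧸ I ^ k := Submodule.factor (Ideal.pow_le_pow_right hk)
    have h1 : z ⊗ₜ[A] (1 : A ⧸ I ^ k) = 0 := by
      have e : π.baseChange S (z ⊗ₜ[A] (1 : A ⧸ I ^ k')) = z ⊗ₜ[A] (1 : A ⧸ I ^ k) := rfl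
      rw [← e, ← hw, ← LinearMap.comp_apply, ← LinearMap.baseChange_comp,
        show π ∘ₗ (DRing.torsionSub 𝔪 (A ⧸ I ^ k')).subtype = 0 from
          LinearMap.ext fun y => hk' y.1 y.2, LinearMap.baseChange_zero, LinearMap.zero_apply]
    have h2 := congrArg (Algebra.TensorProduct.quotIdealMapEquivTensorQuot S (I ^ k)).symm h1
    rw [map_zero] at h2
    rw [show IS ^ k = (I ^ k).map (algebraMap A S) from (Ideal.map_pow _ _ _).symm,
      ← Ideal.Quotient.eq_zero_iff_mem]
    refine Eq.trans ?_ h2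
    rw [← Ideal.Quotient.mk_eq_mk, eq_comm, AlgEquiv.symm_apply_eq]
    rfl
  have hIS : IS ≠ ⊤ := fun h => by
    rw [show I.map (algebraMap A S) = ⊤ from h, top_sup_eq, Ideal.radical_top] at hrad
    exact (IsLocalRing.maximalIdeal.isMaximal S).ne_top hrad.symm
  have : z = 0 := by
    have h := Ideal.iInf_pow_eq_bot_of_isLocalRing IS hIS
    exact (Submodule.mem_bot S).1 (h ▸ (Submodule.mem_iInf _).2 hzero)
  exact hPprime.ne_top ((Ideal.eq_top_iff_one _).2 (by
    rw [hz, Submodule.mem_colon_singleton, this, smul_zero]; exact zero_mem _))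

end Groth.Agent.Lib.ProZero.NoBranch
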