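import Groth.Agent.Lib.ProZero.EvCrit
import Groth.Agent.Lib.ProZero.NoBranch
import Groth.Agent.Lib.LCFin.Bootstrap
import Groth.Agent.Lib.LocalCoh.Vanishing
import Groth.Agent.Lib.LocalCoh.Transfer
import Groth.Agent.Lib.Adic.Complete

/-!
# The pro-zero statement at one prime
-/

universe u

open CategoryTheory CategoryTheory.Limits TensorProduct

attribute [local instance] HasDerivedCategory.standard

namespace Groth.Agent.Lib.ProZero.Punctual

open Groth.Agent.Lib.DMod Groth.Agent.Lib.ProZero.EvCrit Groth.Agent.Lib.ProZero.Complex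

variable {A : Type u} [CommRing A] [IsNoetherianRing A] {ω : Dual.D A}
  (hω : Dual.IsDualizing A ω) (I : Ideal A) (M : Type u) [AddCommGroup M] [Module A M]
  [Module.Finite A M] (q : PrimeSpectrum A) (s d : ℕ)

local notation "R" => Localization.AtPrime q.asIdeal
local notation "B" =>
  AdicCompletion (I.map (algebraMap A (Localization.AtPrime q.asIdeal)))
    (Localization.AtPrime q.asIdeal)

/-- The depth hypothesis (4). -/
def H4 : Prop :=
  ∀ p r : PrimeSpectrum A, p ≤ r → r ≤ q → ¬ I ≤ p.asIdeal → I ≤ r.asIdeal → r ≠ q →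
    (s : ℕ∞) ≤ LocCoh.depth (Localization.AtPrime p.asIdeal) (LocalizedModule p.asIdeal.primeCompl M) ∨
      ((d + s : ℕ) : WithBot ℕ∞) < (LocCoh.depth (Localization.AtPrime p.asIdeal)
        (LocalizedModule p.asIdeal.primeCompl M) : WithBot ℕ∞) +
          Formal2.dimBetween A p.asIdeal q.asIdeal

/-- The depth hypothesis (6). -/
def H6 : Prop :=
  ∀ p' : PrimeSpectrum B, ¬ I.map (algebraMap A B) ≤ p'.asIdeal →
    (∀ q' : PrimeSpectrum B, p' ≤ q' → I.map (algebraMap A B) ≤ q'.asIdeal → q'.asIdeal.IsMaximal) →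
    (s : ℕ∞) < LocCoh.depth (Localization.AtPrime p'.asIdeal) (LocalizedModule p'.asIdeal.primeCompl
      (AdicCompletion (I.map (algebraMap A R)) (LocalizedModule q.asIdeal.primeCompl M)))

omit [IsNoetherianRing A] in
theorem exists_one_le [IsNoetherianRing A] (hcd : LocCoh.CdLE A I d) {p r : PrimeSpectrum A}
    (hpr : p ≤ r) (hp : ¬ I ≤ p.asIdeal) (hr : I ≤ r.asIdeal) : 1 ≤ d := by
  by_contra hd
  obtain rfl : d = 0 := by omega
  obtain ⟨P, hP, hPr⟩ := Ideal.exists_minimalPrimes_le (I := p.asIdeal ⊔ I) (J := r.asIdeal)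
    (sup_le hpr hr)
  have := hP.1.1
  let T := Localization.AtPrime P
  let p' := p.asIdeal.map (algebraMap A T)
  have hdisj : Disjoint (P.primeCompl : Set A) p.asIdeal :=
    Set.disjoint_left.2 fun x hx hx' => hx (hP.1.2 (Ideal.mem_sup_left hx'))
  have hp' : p'.IsPrime := IsLocalization.isPrime_of_isPrime_disjoint P.primeCompl T p.asIdeal p.isPrime hdisj
  have hmT := IsLocalization.AtPrime.map_eq_maximalIdeal P T
  have hI : I.map (algebraMap A T) ≠ ⊤ := fun h => (IsLocalRing.maximalIdeal.isMaximal T).ne_top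
    (top_le_iff.1 (h ▸ (Ideal.map_mono (le_sup_right.trans hP.1.2)).trans hmT.le))
  have h0 : ringKrullDim (T ⧸ p' ⊔ I.map (algebraMap A T)) ≤ (0 : ℕ) := by
    have : Ring.KrullDimLE 0 (T ⧸ p' ⊔ I.map (algebraMap A T)) := Ring.krullDimLE_zero_iff.2 fun Q hQ => by
      let Q' := Q.comap (Ideal.Quotient.mk (p' ⊔ I.map (algebraMap A T)))
      have hQ' : Q'.IsPrime := hQ.comap _
      have hle : p' ⊔ I.map (algebraMap A T) ≤ Q' := Ideal.mk_ker.ge.trans (Ideal.comap_mono bot_le)
      have h1 : Q'.comap (algebraMap A T) = P := le_antisymm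
        ((Ideal.comap_mono (IsLocalRing.le_maximalIdeal hQ'.ne_top)).trans
          (IsLocalization.AtPrime.under_maximalIdeal T P).le)
        (hP.2 ⟨hQ'.comap _, sup_le (Ideal.map_le_iff_le_comap.1 (le_sup_left.trans hle))
          (Ideal.map_le_iff_le_comap.1 (le_sup_right.trans hle))⟩
          ((Ideal.comap_mono (IsLocalRing.le_maximalIdeal hQ'.ne_top)).trans
            (IsLocalization.AtPrime.under_maximalIdeal T P).le))
      have h2 : Q' = IsLocalRing.maximalIdeal T :=
        ((IsLocalization.map_comap P.primeCompl T Q').symm.trans (congrArg (Ideal.map _) h1)).trans hmT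
      have : (Q.comap (Ideal.Quotient.mk (p' ⊔ I.map (algebraMap A T)))).IsMaximal := by
        rw [show Q.comap (Ideal.Quotient.mk (p' ⊔ I.map (algebraMap A T))) =
          IsLocalRing.maximalIdeal T from h2]
        exact IsLocalRing.maximalIdeal.isMaximal T
      rw [← Ideal.map_comap_of_surjective (Ideal.Quotient.mk _) Ideal.Quotient.mk_surjective Q]
      exact Ideal.IsMaximal.map_of_surjective_of_ker_le Ideal.Quotient.mk_surjective
        (Ideal.comap_mono bot_le)
    exact_mod_cast (Ring.krullDimLE_iff.1 this)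
  have hb := LCFin.ConnBound.dim_prime_le (q := p') hI (LCFin.Cd.cdLE_map hcd) h0
  have hlt : p' < IsLocalRing.maximalIdeal T := by
    refine lt_of_le_of_ne (IsLocalRing.le_maximalIdeal hp'.ne_top) fun he => hp ?_
    have h := congrArg (Ideal.comap (algebraMap A T)) he
    rw [show p'.comap (algebraMap A T) = p.asIdeal from
      IsLocalization.comap_map_of_isPrime_disjoint P.primeCompl T p.isPrime hdisj,
      show (IsLocalRing.maximalIdeal T).comap (algebraMap A T) = P from
        IsLocalization.AtPrime.under_maximalIdeal T P] at h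
    rw [h]
    exact le_sup_right.trans hP.1.2
  have h1 := (Depth.Assoc.ringKrullDim_quotient_add_one_le_of_lt hlt).trans hb
  let : Field (T ⧸ IsLocalRing.maximalIdeal T) := Ideal.Quotient.field _
  rw [ringKrullDim_eq_zero_of_field] at h1
  exact absurd h1 (by simp)

include hω

/-- The vanishing of the critical top local cohomology at `q`. -/
theorem notMem_support_H_crit (hq : I ≤ q.asIdeal) (h6 : H6 I M q s) (p : PrimeSpectrum A)
    (hpq : p ≤ q) (hpM : p ∈ Module.support A M)
    (hdep : LocCoh.depth (Localization.AtPrime p.asIdeal) (LocalizedModule p.asIdeal.primeCompl M) = s)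
    (k : ℕ) (hk : (k : ℤ) = Degree.deg hω q - Degree.deg hω p) (hk1 : 1 ≤ k) :
    q ∉ Module.support A (LocCoh.H I k (A ⧸ p.asIdeal)) := by
  let J := I.map (algebraMap A R)
  have hJ : J ≠ ⊤ := fun h => (IsLocalRing.maximalIdeal.isMaximal R).ne_top (top_le_iff.1
    (h ▸ (Ideal.map_mono hq).trans (IsLocalization.AtPrime.map_eq_maximalIdeal q.asIdeal R).le))
  have := Regular.Completion.isLocalRing J hJ
  have := AdicCompletion.flat_of_isNoetherian J
  have := Excellent.CompletionNoetherian.isNoetherianRing_adicCompletion J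
  have := Regular.Completion.isLocalHom J hJ
  have : Module.Flat A B := Module.Flat.trans A R B
  obtain ⟨ω', hω', _, hclosed, hdata⟩ := LCFin.Bootstrap.exists_deg hω I M q hq
  let IB := I.map (algebraMap A B)
  have hmapJ : J.map (algebraMap R B) = IB := by
    rw [Ideal.map_map, ← IsScalarTower.algebraMap_eq]
  have : IsAdicComplete IB B := by
    rw [← hmapJ]
    exact AdicCompletion.isAdicComplete_self J (Ideal.fg_of_isNoetherianRing _)
  let N := B ⊗[A] (A ⧸ p.asIdeal)
  have hc : PrimeSpectrum.comap (algebraMap A B) (IsLocalRing.closedPoint B) = q := by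
    rw [IsScalarTower.algebraMap_eq A R B, PrimeSpectrum.comap_comp_apply,
      IsLocalRing.comap_closedPoint]
    exact PrimeSpectrum.ext (IsLocalization.AtPrime.under_maximalIdeal R q.asIdeal)
  have key : IsLocalRing.closedPoint B ∉ Module.support B (LocCoh.H IB k N) := by
    refine EvCrit.notMem_support_H k N fun Q hQ _ => ?_
    suffices Subsingleton (LocCoh.H IB k (B ⧸ Q.asIdeal)) by simp [Module.support_eq_empty]
    by_cases hIQ : IB ≤ Q.asIdeal
    · obtain ⟨k', rfl⟩ := Nat.exists_eq_add_of_le hk1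
      rw [add_comm]
      refine LocalCoh.lc_subsingleton_of_isPowerTorsion IB k' (ModuleCat.of B (B ⧸ Q.asIdeal)) fun x => ⟨1, fun a ha => ?_⟩
      rw [pow_one] at ha
      obtain ⟨x, rfl⟩ := Submodule.Quotient.mk_surjective _ x
      show a • (Submodule.Quotient.mk x : B ⧸ Q.asIdeal) = 0
      rw [← Submodule.Quotient.mk_smul, Submodule.Quotient.mk_eq_zero]
      exact Ideal.mul_mem_right x _ (hIQ ha)
    have hpQ : p ≤ LCFin.Bootstrap.below I q Q := by
      intro v hv
      rw [LCFin.Bootstrap.below_asIdeal]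
      refine Module.annihilator_le_of_mem_support hQ (Module.mem_annihilator.2 fun z => ?_)
      rw [algebraMap_smul]
      induction z using TensorProduct.induction_on with
      | zero => exact smul_zero _
      | tmul b m =>
        obtain ⟨m, rfl⟩ := Submodule.Quotient.mk_surjective _ m
        rw [← TensorProduct.tmul_smul, ← Submodule.Quotient.mk_smul,
          (Submodule.Quotient.mk_eq_zero _).2
            (show v • m ∈ p.asIdeal from Ideal.mul_mem_right m p.asIdeal hv), TensorProduct.tmul_zero]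
      | add x y hx hy => rw [smul_add, hx, hy, add_zero]
    obtain ⟨hd, -, hdep'⟩ := hdata Q
    have hdim := DimDegree.ringKrullDim_quotient_eq hω' Q
    rw [hclosed] at hdim
    have hle := Degree.deg_le hω hpQ
    have hcl := Degree.deg_le hω' (show Q ≤ IsLocalRing.closedPoint B from
      IsLocalRing.le_maximalIdeal Q.isPrime.ne_top)
    rw [hclosed] at hcl
    rcases lt_or_eq_of_le (show (Degree.deg hω q - Degree.deg hω' Q).toNat ≤ k by omega) with hlt | heq
    · refine LocalCoh.lc_subsingleton_of_supportDim_lt k B IB _ ?_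
      rw [Module.supportDim_quotient_eq_ringKrullDim, hdim]
      exact_mod_cast hlt
    have hbelow : LCFin.Bootstrap.below I q Q = p := by
      by_contra hne
      have := Degree.deg_lt hω (lt_of_le_of_ne hpQ (Ne.symm hne))
      omega
    rw [hbelow] at hdep' hd
    have hdepQ : ¬ (s : ℕ∞) < LocCoh.depth (Localization.AtPrime Q.asIdeal)
        (LocalizedModule Q.asIdeal.primeCompl
          (AdicCompletion J (LocalizedModule q.asIdeal.primeCompl M))) := by
      rcases hdep' with ⟨hn, -⟩ | ⟨n, m, hn, hm, hnm⟩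
      · rw [hdep] at hn
        exact absurd hn (ENat.natCast_ne_top s)
      · rw [hm]
        rw [hdep] at hn
        have hns : s = n := by exact_mod_cast hn
        have : m = s := by omega
        rw [this]
        exact lt_irrefl _
    have h' := mt (h6 Q hIQ) hdepQ
    push Not at h'
    obtain ⟨r, hQr, hIr, hr⟩ := h'
    have : Nontrivial (B ⧸ Q.asIdeal) := Ideal.Quotient.nontrivial_iff.2 Q.isPrime.ne_top
    have : IsLocalRing (B ⧸ Q.asIdeal) :=
      IsLocalRing.of_surjective' (Ideal.Quotient.mk Q.asIdeal) Ideal.Quotient.mk_surjective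
    have : IsAdicComplete (IB.map (algebraMap B (B ⧸ Q.asIdeal))) (B ⧸ Q.asIdeal) :=
      Adic.Complete.isAdicComplete_quotient Q.asIdeal
    let r' : PrimeSpectrum (B ⧸ Q.asIdeal) :=
      ⟨r.asIdeal.map (Ideal.Quotient.mk Q.asIdeal), Ideal.map_isPrime_of_surjective
        Ideal.Quotient.mk_surjective (by rw [Ideal.mk_ker]; exact hQr)⟩
    have hn' : ringKrullDim (B ⧸ Q.asIdeal) = k := by rw [hdim, heq]
    have hsub := NoBranch.subsingleton_top (IB.map (algebraMap B (B ⧸ Q.asIdeal))) (r := r')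
      (Ideal.map_mono hIr) (fun he => hr (by
        have h := congrArg (Ideal.comap (Ideal.Quotient.mk Q.asIdeal)) he
        rw [Ideal.comap_map_of_surjective _ Ideal.Quotient.mk_surjective,
          ← RingHom.ker_eq_comap_bot, Ideal.mk_ker, sup_eq_left.2 hQr] at h
        rw [h]
        exact Ideal.comap_isMaximal_of_surjective _ Ideal.Quotient.mk_surjective)) hn'
    obtain ⟨ε⟩ := LocalCoh.nonempty_lcRestrictIso (B ⧸ Q.asIdeal) IB
      (ModuleCat.of (B ⧸ Q.asIdeal) (B ⧸ Q.asIdeal)) k
    let ε' := ε ≪≫ (localCohomology IB k).mapIso (LocalCoh.resObjIso (B ⧸ Q.asIdeal) (B ⧸ Q.asIdeal))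
    exact @Equiv.subsingleton _ _ ε'.symm.toLinearEquiv.toEquiv hsub
  obtain ⟨e⟩ := LocalCoh.nonempty_lcBaseChangeIso (I := I) B
    (ModuleCat.of A (A ⧸ p.asIdeal)) k
  intro hmem
  exact key (HomSupp.mem_support_equiv e.toLinearEquiv
    (FlatDegree.mem_support_baseChange (M := LocCoh.H I k (A ⧸ p.asIdeal))
      (IsLocalRing.closedPoint B) (by rw [hc]; exact hmem)))

/-- The data at the primes outside `V(I)`. -/
theorem prime_data (hcd : LocCoh.CdLE A I d) (hq : I ≤ q.asIdeal) (h4 : H4 I M q s d)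
    (h6 : H6 I M q s) (p : PrimeSpectrum A) (hpq : p ≤ q) (hp : ¬ I ≤ p.asIdeal)
    (hpM : p ∈ Module.support A M) (n : ℕ)
    (hn : LocCoh.depth (Localization.AtPrime p.asIdeal) (LocalizedModule p.asIdeal.primeCompl M) = n) :
    (s : ℤ) + 1 < n + (Degree.deg hω q - Degree.deg hω p) ∧
      ((d : ℤ) + s < n + (Degree.deg hω q - Degree.deg hω p) ∨ s < n ∨
        (n = s ∧ ∀ k : ℕ, (k : ℤ) = Degree.deg hω q - Degree.deg hω p →
          q ∉ Module.support A (LocCoh.H I k (A ⧸ p.asIdeal)))) := by
  have hlt : Degree.deg hω p < Degree.deg hω q :=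
    Degree.deg_lt hω (lt_of_le_of_ne hpq fun h => hp (h ▸ hq))
  have hcrit : n = s → ∀ k : ℕ, (k : ℤ) = Degree.deg hω q - Degree.deg hω p →
      q ∉ Module.support A (LocCoh.H I k (A ⧸ p.asIdeal)) := fun hns k hk =>
    notMem_support_H_crit hω I M q s hq h6 p hpq hpM (hn.trans (by rw [hns])) k hk (by omega)
  by_cases hr : ∃ r : PrimeSpectrum A, p ≤ r ∧ r ≤ q ∧ I ≤ r.asIdeal ∧ r ≠ q
  · obtain ⟨r, hpr, hrq, hIr, hrne⟩ := hr
    have h1 := Degree.deg_lt hω (lt_of_le_of_ne hpr fun h => hp (h ▸ hIr))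
    have h2 := Degree.deg_lt hω (lt_of_le_of_ne hrq hrne)
    rcases h4 p r hpr hrq hp hIr hrne with h | h
    · rw [hn] at h
      have h' : s ≤ n := by exact_mod_cast h
      refine ⟨by omega, ?_⟩
      rcases lt_or_eq_of_le h' with hlt' | heq
      · exact Or.inr (Or.inl hlt')
      · exact Or.inr (Or.inr ⟨heq.symm, hcrit heq.symm⟩)
    · rw [hn, LCFin.Bootstrap.dimBetween_eq hω p q hpq] at h
      have h' : d + s < n + (Degree.deg hω q - Degree.deg hω p).toNat := by exact_mod_cast h
      have := exists_one_le I d hcd hpq hp hq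
      exact ⟨by omega, Or.inl (by omega)⟩
  · push Not at hr
    have h := LCFin.Bootstrap.depth_gt_of_minimal hω I M q s hq p hpq hp
      (fun r h1 h2 h3 => hr r h1 h2 h3) h6
    rw [hn] at h
    have h' : s < n := by exact_mod_cast h
    exact ⟨by omega, Or.inr (Or.inl h')⟩

omit hω in
/-- The eventual vanishing at `q`. -/
theorem ev (J : DRing.Cx A) [J.IsKInjective] (hJ : ∀ n, Injective (J.X n)) (a₀ b₀ : ℤ)
    (hb : ∀ i, i < a₀ ∨ b₀ < i → IsZero (J.X i))
    (hωJ : Dual.IsDualizing A (DerivedCategory.Q.obj J)) (hcd : LocCoh.CdLE A I d) (hq : I ≤ q.asIdeal)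
    (h4 : H4 I M q s d) (h6 : H6 I M q s) (j : ℤ) (hj : Degree.deg hωJ q - (s + 1) ≤ j) :
    Ev I q M ((DerivedCategory.Q.obj J)⟦j⟧) := by
  have hinj : ∀ n, Injective ((J⟦j⟧).X n) := fun n =>
    Injective.of_iso (J.shiftFunctorObjXIso j n (n + j) rfl).symm inferInstance
  refine ev_of_iso ((DerivedCategory.Q.commShiftIso j).app J) (ev_of_dual (J⟦j⟧) hinj (a₀ - j) (b₀ - j)
    (fun i hi => (hb (i + j) (by omega)).of_iso (J.shiftFunctorObjXIso j i _ rfl)) M fun b => ?_)
  obtain ⟨e₀⟩ := nonempty_homology_equiv (J⟦j⟧) (ModuleCat.of A M) b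
  let E := Dual.inD A M ⟶ (DerivedCategory.Q.obj J)⟦j + b⟧
  let e : E ≃ₗ[A] (Biduality.DC (J⟦j⟧) (ModuleCat.of A M)).homology b :=
    (e₀.trans (Linear.homCongr A (Iso.refl _)
      ((shiftFunctor (Dual.D A) b).mapIso ((DerivedCategory.Q.commShiftIso j).app J) ≪≫
        ((shiftFunctorAdd' (Dual.D A) j b (j + b) rfl).app _).symm))).symm
  have : Module.Finite A E := Degree.finite_hom hωJ M (j + b)
  let Hb : Type u := (Biduality.DC (J⟦j⟧) (ModuleCat.of A M)).homology b
  have : Module.Finite A Hb := Module.Finite.equiv e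
  have hsupp : ∀ p ∈ Module.support A Hb, p ≤ q → ¬ I ≤ p.asIdeal →
      p ∈ Module.support A M ∧ ∃ n : ℕ, LocCoh.depth (Localization.AtPrime p.asIdeal)
        (LocalizedModule p.asIdeal.primeCompl M) = n ∧ j + b ≤ Degree.deg hωJ p - n := by
    intro p hp' _ _
    have hp : p ∈ Module.support A E := HomSupp.mem_support_equiv e.symm hp'
    have hpM : p ∈ Module.support A M := by
      by_contra hc
      refine HomSupp.notMem_support_equiv ?_
        (HomSupp.notMem_support_hom_inD_left M hc 0 ((DerivedCategory.Q.obj J)⟦j + b⟧)) hp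
      exact Linear.homCongr A ((shiftFunctorZero (Dual.D A) ℤ).app _) (Iso.refl _)
    obtain ⟨n, hn, -, hmax⟩ := DepthDegree.depth_eq hωJ p M hpM
    exact ⟨hpM, n, hn, not_lt.1 fun h => hmax _ h hp⟩
  refine ⟨fun hb0 => exists_torsion Hb fun p hp hpq => ?_, fun hb0 => ?_⟩
  · by_contra hI
    obtain ⟨hpM, n, hn, hle⟩ := hsupp p hp hpq hI
    have := (prime_data hωJ I M q s d hcd hq h4 h6 p hpq hI hpM n hn).1
    omega
  · refine notMem_support_H (1 - b).toNat Hb fun p hp hpq => ?_
    by_cases hI : I ≤ p.asIdeal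
    · have : Subsingleton (LocCoh.H I (1 - b).toNat (A ⧸ p.asIdeal)) := by
        rw [show (1 - b).toNat = (-b).toNat + 1 by omega]
        refine LocalCoh.lc_subsingleton_of_isPowerTorsion I _ (ModuleCat.of A (A ⧸ p.asIdeal))
          fun x => ⟨1, fun a ha => ?_⟩
        rw [pow_one] at ha
        obtain ⟨x, rfl⟩ := Submodule.Quotient.mk_surjective _ x
        show a • (Submodule.Quotient.mk x : A ⧸ p.asIdeal) = 0
        rw [← Submodule.Quotient.mk_smul, Submodule.Quotient.mk_eq_zero]
        exact Ideal.mul_mem_right x _ (hI ha)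
      simp [Module.support_eq_empty]
    obtain ⟨hpM, n, hn, hle⟩ := hsupp p hp hpq hI
    obtain ⟨h1, h2⟩ := prime_data hωJ I M q s d hcd hq h4 h6 p hpq hI hpM n hn
    have hsmall : (Degree.deg hωJ q - Degree.deg hωJ p).toNat < (1 - b).toNat →
        q ∉ Module.support A (LocCoh.H I (1 - b).toNat (A ⧸ p.asIdeal)) := by
      intro hlt hmem
      obtain ⟨e'⟩ := LocalCoh.nonempty_lc_localizedModule_equiv I q.asIdeal.primeCompl
        (A ⧸ p.asIdeal) (1 - b).toNat
      have : Subsingleton (LocCoh.H (I.map (algebraMap A R)) (1 - b).toNat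
          (LocalizedModule q.asIdeal.primeCompl (A ⧸ p.asIdeal))) := by
        refine LocalCoh.lc_subsingleton_of_supportDim_lt _ R _ _ ?_
        rw [DimDegree.supportDim_localized_eq hωJ q p _ hpq
          ((HomSupp.mem_support_quotient_prime p p).2 le_rfl)
          fun r hr _ => Degree.deg_le hωJ ((HomSupp.mem_support_quotient_prime p r).1 hr)]
        exact_mod_cast hlt
      exact (Module.notMem_support_iff.2 e'.toEquiv.subsingleton) hmem
    rcases h2 with h | h | ⟨hns, hcrit⟩
    · have : Subsingleton (LocCoh.H I (1 - b).toNat (A ⧸ p.asIdeal)) :=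
        hcd (A ⧸ p.asIdeal) _ (by omega)
      simp [Module.support_eq_empty]
    · exact hsmall (by omega)
    · have hlt' := Degree.deg_le hωJ hpq
      rcases lt_or_eq_of_le (show (Degree.deg hωJ q - Degree.deg hωJ p).toNat ≤ (1 - b).toNat by omega)
        with hlt | heq
      · exact hsmall hlt
      · exact hcrit _ (by omega)

end Groth.Agent.Lib.ProZero.Punctual
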