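import Groth.Agent.Lib.ProZero.Local
import Groth.Agent.Lib.ProZero.Punctual

/-!
# The systems `H^i_T(I^n M)` are pro-zero
-/

universe u

open CategoryTheory CategoryTheory.Limits Opposite

attribute [local instance] HasDerivedCategory.standard

namespace Groth.Agent.Lib.ProZero.Final

open Groth.Agent.Lib.DMod Groth.Agent.Lib.RGamma Groth.Agent.Lib.ProZero.Complex
open Groth.Agent.Lib.RGamma.KillHom (mp mp_comp s0)

variable {A : Type u} [CommRing A] [IsNoetherianRing A] (I : Ideal A) (M : Type u) [AddCommGroup M]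
  [Module A M] [Module.Finite A M] {T : Set (PrimeSpectrum A)} (s d : ℕ)

/-- The situation. -/
structure Data (T : Set (PrimeSpectrum A)) : Prop where
  hdc : ∃ ω : Dual.D A, Dual.IsDualizing A ω
  hcd : LocCoh.CdLE A I d
  hTI : T ⊆ PrimeSpectrum.zeroLocus (I : Set A)
  hT : StableUnderSpecialization T
  h4 : ∀ p r q : PrimeSpectrum A, p ≤ r → r ≤ q → ¬ I ≤ p.asIdeal → I ≤ r.asIdeal → r ∉ T → q ∈ T →
    (s : ℕ∞) ≤ LocCoh.depth (Localization.AtPrime p.asIdeal) (LocalizedModule p.asIdeal.primeCompl M) ∨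
      ((d + s : ℕ) : WithBot ℕ∞) < (LocCoh.depth (Localization.AtPrime p.asIdeal)
        (LocalizedModule p.asIdeal.primeCompl M) : WithBot ℕ∞) +
          Formal2.dimBetween A p.asIdeal q.asIdeal
  h6 : ∀ q : PrimeSpectrum A, q ∈ T → Punctual.H6 I M q s

variable {I M s d}

omit [IsNoetherianRing A] [Module.Finite A M] in
/-- The hypothesis (4) at a point of `T`, without the restriction on `r`. -/
theorem h4_at [IsNoetherianRing A] [Module.Finite A M] (D : Data I M s d T) {q : PrimeSpectrum A}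
    (hq : q ∈ T) : Punctual.H4 I M q s d := by
  intro p r hpr hrq hp hIr _
  obtain ⟨P, hP, hPr⟩ := Ideal.exists_minimalPrimes_le (I := p.asIdeal ⊔ I) (J := r.asIdeal)
    (sup_le hpr hIr)
  let r₀ : PrimeSpectrum A := ⟨P, hP.1.1⟩
  have hpr₀ : p ≤ r₀ := le_sup_left.trans hP.1.2
  have hIr₀ : I ≤ r₀.asIdeal := le_sup_right.trans hP.1.2
  have hr₀q : r₀ ≤ q := le_trans (show r₀ ≤ r from hPr) hrq
  by_cases hT₀ : r₀ ∈ T
  · obtain ⟨ω, hω⟩ := D.hdc
    exact Or.inl (LCFin.Bootstrap.depth_gt_of_minimal hω I M r₀ s hIr₀ p hpr₀ hp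
      (fun x hx hx' hIx => le_antisymm hx' (hP.2 ⟨x.isPrime, sup_le hx hIx⟩ hx')) (D.h6 r₀ hT₀)).le
  · exact D.h4 p r₀ q hpr₀ hr₀q hp hIr₀ hT₀ hq

/-- A uniform level for the duals. -/
theorem exists_uniform (D : Data I M s d T) (J : DRing.Cx A) [J.IsKInjective]
    (hJ : ∀ n, Injective (J.X n)) (a₀ b₀ : ℤ) (hb : ∀ i, i < a₀ ∨ b₀ < i → IsZero (J.X i))
    (hω : Dual.IsDualizing A (DerivedCategory.Q.obj J)) (n : ℕ) :
    ∃ (m : ℕ) (h : n ≤ m), ∀ q ∈ T, ∀ i : ℤ, i ≤ (s + 1 : ℕ) →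
      ∀ g : Dual.inD A (pw I M n) ⟶ (DerivedCategory.Q.obj J)⟦Degree.deg hω q - i⟧,
        ∃ t ∉ q.asIdeal, t • (mp (incl I M h) ≫ g) = 0 := by
  classical
  obtain ⟨lo, hi, hlo⟩ := Degree.exists_le_deg hω
  obtain ⟨c₁, c₂, -, hbound, -⟩ := PointDegree.exists_hom_bounds hω
  let Kn := Dual.inD A (pw I M n)
  let ω := DerivedCategory.Q.obj J
  let rge : ∀ (j : ℤ) (l : ℕ), Submodule A (Dual.inD A (pw I M (n + l)) ⟶ ω⟦j⟧) := fun j l =>
    LinearMap.range (Linear.leftComp A (ω⟦j⟧) (mp (incl I M (Nat.le_add_right n l))))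
  have hcomp : ∀ {a b c : ℕ} (h : a ≤ b) (h' : b ≤ c) {j : ℤ} (g : Dual.inD A (pw I M a) ⟶ ω⟦j⟧),
      mp (incl I M (h.trans h')) ≫ g = mp (incl I M h') ≫ mp (incl I M h) ≫ g := fun h h' _ g => by
    rw [← EvCrit.incl_comp M h h', mp_comp, Category.assoc]
  let ann : ℤ → ℕ →o Ideal A := fun j =>
    ⟨fun l => Module.annihilator A (rge j l), fun l l' hl a ha => by
      refine Module.mem_annihilator.2 fun y => Subtype.ext ?_
      obtain ⟨g, hg⟩ := y.2
      have h := congrArg Subtype.val (Module.mem_annihilator.1 ha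
        (⟨mp (incl I M (Nat.le_add_right n l)) ≫ g, ⟨g, rfl⟩⟩ : rge j l))
      show a • y.1 = 0
      rw [← hg]
      show a • (mp (incl I M (Nat.le_add_right n l')) ≫ g) = 0
      rw [hcomp (Nat.le_add_right n l) (Nat.add_le_add_left hl n) g, ← Linear.comp_smul]
      exact (congrArg _ h).trans comp_zero⟩
  choose l₀ hl₀ using fun j => monotone_stabilizes_iff_noetherian.2
    (inferInstance : IsNoetherian A A) (ann j)
  let Js := Finset.Icc (lo - ((s + 1 : ℕ) : ℤ)) c₂
  refine ⟨n + Js.sup l₀, Nat.le_add_right _ _, fun q hq i hi' g => ?_⟩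
  by_cases hj : c₂ < Degree.deg hω q - i
  · have := hbound (pw I M n) (Degree.deg hω q - i) (Or.inr hj)
    exact ⟨1, q.isPrime.one_notMem, by rw [this.elim g 0, comp_zero, smul_zero]⟩
  let j := Degree.deg hω q - i
  have hjJ : j ∈ Js := Finset.mem_Icc.2 ⟨by have := (hlo q).1; omega, by omega⟩
  have hev := Punctual.ev I M q s d J hJ a₀ b₀ hb hω D.hcd (D.hTI hq) (h4_at D hq) (D.h6 q hq) j
    (by push_cast at hi'; omega)
  have : Module.Finite A (Kn ⟶ ω⟦j⟧) := Degree.finite_hom hω (pw I M n) j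
  obtain ⟨S, hS⟩ := Module.Finite.fg_top (R := A) (M := (Kn ⟶ ω⟦j⟧))
  have hkey : ∀ S' : Finset (Kn ⟶ ω⟦j⟧), ∃ (m : ℕ) (h : n ≤ m), ∃ t ∉ q.asIdeal,
      ∀ g ∈ S', t • (mp (incl I M h) ≫ g) = 0 := by
    intro S'
    induction S' using Finset.induction with
    | empty => exact ⟨n, le_rfl, 1, q.isPrime.one_notMem, by simp⟩
    | insert g S' _ ih =>
      obtain ⟨m, hm, t, ht, h0⟩ := ih
      obtain ⟨m', hm', t', ht', h0'⟩ := hev n g
      refine ⟨max m m', hm.trans (le_max_left _ _), t * t', q.isPrime.mul_notMem ht ht', fun x hx => ?_⟩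
      rcases Finset.mem_insert.1 hx with rfl | hx
      · rw [show mp (incl I M (hm.trans (le_max_left m m'))) = mp (incl I M (hm'.trans (le_max_right m m')))
          from rfl, hcomp hm' (le_max_right m m') x, mul_smul, ← Linear.comp_smul _ _ _ _ t', h0',
          comp_zero, smul_zero]
      · rw [hcomp hm (le_max_left m m') x, mul_comm, mul_smul, ← Linear.comp_smul _ _ _ _ t, h0 x hx,
          comp_zero, smul_zero]
  obtain ⟨m, hm, t, ht, h0⟩ := hkey S
  refine ⟨t, ht, ?_⟩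
  obtain ⟨l, rfl⟩ := Nat.exists_eq_add_of_le hm
  have htl : t ∈ ann j (max l (l₀ j)) := by
    refine (ann j).monotone (le_max_left l (l₀ j)) (Module.mem_annihilator.2 fun y => Subtype.ext ?_)
    obtain ⟨x, hx⟩ := y.2
    show t • y.1 = 0
    rw [← hx]
    clear hx
    have hx' : x ∈ Submodule.span A (S : Set (Kn ⟶ ω⟦j⟧)) := hS ▸ Submodule.mem_top
    show t • (mp (incl I M (Nat.le_add_right n l)) ≫ x) = 0
    induction hx' using Submodule.span_induction with
    | mem x hx => exact h0 x hx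
    | zero => rw [comp_zero, smul_zero]
    | add x y _ _ hx hy => rw [Preadditive.comp_add, smul_add, hx, hy, add_zero]
    | smul c x _ hx => rw [Linear.comp_smul, smul_comm, hx, smul_zero]
  rw [← hl₀ j _ (le_max_right l (l₀ j))] at htl
  have h1 := (ann j).monotone (Finset.le_sup (f := l₀) hjJ) htl
  exact congrArg Subtype.val (Module.mem_annihilator.1 h1
    (⟨mp (incl I M (Nat.le_add_right n (Js.sup l₀))) ≫ g, ⟨g, rfl⟩⟩ : rge j (Js.sup l₀)))

/-- Maps from modules supported in `T` into `I^m M` die in `I^n M`. -/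
theorem exists_kill (D : Data I M s d T) (n : ℕ) :
    ∃ (m : ℕ) (h : n ≤ m), ∀ i : ℤ, i ≤ (s + 1 : ℕ) →
      ∀ (P : Type u) [AddCommGroup P] [Module A P] [Module.Finite A P],
      HDT.mem T (Module.annihilator A P) → ∀ g : Dual.inD A P ⟶ (Dual.inD A (pw I M m))⟦i⟧,
        g ≫ (mp (incl I M h))⟦i⟧' = 0 := by
  obtain ⟨ω, hω⟩ := D.hdc
  obtain ⟨J, a₀, b₀, hb, hJ, ⟨e⟩⟩ := Biduality.exists_complex hω
  have : J.IsStrictlyGE a₀ := (CochainComplex.isStrictlyGE_iff _ _).2 fun j hj => hb j (Or.inl hj)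
  have : J.IsKInjective := CochainComplex.isKInjective_of_injective _ a₀
  have hωJ : Dual.IsDualizing A (DerivedCategory.Q.obj J) := LBC.isDualizing_of_iso e.symm hω
  exact Local.kill_of_dual hωJ (fun n => Dual.inD A (pw I M n)) (fun n m h => mp (incl I M h))
    (fun h h' => (congrArg mp (EvCrit.incl_comp (I := I) M h h').symm).trans (mp_comp _ _))
    (fun n i => Basic.finite_HD_inD (pw I M n) i) 0 0
    (fun n i hi => Basic.subsingleton_HD_inD (pw I M n) (by omega)) _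
    (fun n => exists_uniform D J hJ a₀ b₀ hb hωJ n) n

/-- The systems of local cohomology modules are pro-zero up to degree `s + 1`. -/
theorem proZero (D : Data I M s d T) (n : ℕ) :
    ∃ (m : ℕ) (h : n ≤ m), ∀ i : ℕ, i ≤ s + 1 → ∀ x : Dual2.HT T i (pw I M m),
      (localCohomology.ofDiagram (Dual2.idealsInDiagram T) i).map (ModuleCat.ofHom (incl I M h)) x = 0 := by
  obtain ⟨m, h, hm⟩ := exists_kill D n
  refine ⟨m, h, fun i hi x => ?_⟩
  let e₀ : localCohomology.ofDiagram.{u, u} (Dual2.idealsInDiagram T) i ≅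
      LocalCoh.colimExt (HDT.sys T) i :=
    HasColimit.isoOfNatIso (Functor.isoWhiskerLeft (HDT.sys T) (LocalCoh.extIso A i))
  let f : ModuleCat.of A (pw I M m) ⟶ ModuleCat.of A (pw I M n) := ModuleCat.ofHom (incl I M h)
  apply (e₀.app (ModuleCat.of A (pw I M n))).toLinearEquiv.injective
  rw [map_zero]
  refine (ConcreteCategory.congr_hom (e₀.hom.naturality f) x).trans ?_
  show ((LocalCoh.colimExt (HDT.sys T) i).map f).hom ((e₀.hom.app _).hom x) = 0
  obtain ⟨k, α, hα⟩ := LocalCoh.colimExt.exists_rep (HDT.sys T) i (ModuleCat.of A (pw I M m))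
    ((e₀.hom.app (ModuleCat.of A (pw I M m))).hom x)
  rw [← hα, LocalCoh.colimExt.map_ι_apply]
  refine (congrArg _ ?_).trans (map_zero _)
  let X : ModuleCat.{u} A := ((HDT.sys T).obj k).unop
  apply (HDT.toD X (ModuleCat.of A (pw I M n)) i).injective
  refine Eq.trans ?_ (map_zero _).symm
  have h1 : HDT.toD X (ModuleCat.of A (pw I M n)) i (α.comp (Abelian.Ext.mk₀ f) (add_zero i)) =
      HDT.toD X (ModuleCat.of A (pw I M m)) i α ≫ (s0.map f)⟦(i : ℤ)⟧' := by
    show (α.comp (Abelian.Ext.mk₀ f) (add_zero i)).hom = _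
    rw [Abelian.Ext.comp_hom, Abelian.Ext.mk₀_hom, ShiftedHom.comp_mk₀]
    rfl
  rw [h1]
  let J : Ideal A := k.unop.obj
  have : Module.Finite A X := inferInstanceAs (Module.Finite A (A ⧸ k.unop.obj))
  refine @hm (i : ℤ) (by exact_mod_cast hi) X X.isAddCommGroup X.isModule this ?_ (HDT.toD X _ i α)
  show HDT.mem T (Module.annihilator A (A ⧸ k.unop.obj))
  rw [Ideal.annihilator_quotient]
  exact k.unop.property

end Groth.Agent.Lib.ProZero.Final
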