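import Groth.Agent.Lib.RGamma.Derived
import Groth.Agent.Lib.DMod.Biduality
import Groth.Agent.Lib.RGamma.KillHom
import Mathlib.RingTheory.Ideal.Operations

/-!
# Torsion and cycles in complexes of modules, up to denominators at a prime
-/

universe u

open CategoryTheory CategoryTheory.Limits

attribute [local instance] HasDerivedCategory.standard

namespace Groth.Agent.Lib.ProZero.Complex

open Groth.Agent.Lib.RGamma Groth.Agent.Lib.DMod

variable {A : Type u} [CommRing A]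

section Good

/-- Maps of a finite module into a torsion submodule. -/
noncomputable def homTorsionEquiv (J : Ideal A) (M : ModuleCat.{u} A) [Module.Finite A M]
    (E : ModuleCat.{u} A) :
    (M ⟶ (DRing.gammaI J).obj E) ≃ₗ[A] DRing.torsionSub J (M ⟶ E) where
  toFun h := ⟨h ≫ (DRing.gammaIι J).app E, by
    classical
    obtain ⟨s, hs⟩ := Module.Finite.fg_top (R := A) (M := M)
    choose k hk using fun x : M => (h.hom x).2
    refine ⟨s.sup k, fun a ha => ModuleCat.hom_ext (LinearMap.ext fun x => ?_)⟩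
    have hx : x ∈ Submodule.span A (s : Set M) := hs ▸ Submodule.mem_top
    let φ : M →ₗ[A] E := (DRing.torsionSub J E).subtype ∘ₗ h.hom
    show a • φ x = 0
    induction hx using Submodule.span_induction with
    | mem y hy => exact hk y a (Ideal.pow_le_pow_right (Finset.le_sup hy) ha)
    | zero => simp
    | add y z _ _ hy hz => rw [map_add, smul_add, hy, hz, add_zero]
    | smul c y _ hy => rw [map_smul, smul_comm, hy, smul_zero]⟩
  invFun g := ModuleCat.ofHom (LinearMap.codRestrict (DRing.torsionSub J E) g.1.hom fun x => by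
    obtain ⟨k, hk⟩ := g.2
    exact ⟨k, fun a ha => congr($(hk a ha) x)⟩)
  map_add' _ _ := rfl
  map_smul' _ _ := rfl
  left_inv _ := rfl
  right_inv _ := rfl

variable [IsNoetherianRing A]

theorem div_hom (f : A) (M : Type u) [AddCommGroup M] [Module A M] [Module.Finite A M]
    (E : ModuleCat.{u} A) (hE : Module.Injective A E) :
    Div f (ModuleCat.of A M ⟶ E) := by
  intro h
  obtain ⟨k, hk⟩ := monotone_stabilizes_iff_noetherian.2 (inferInstance : IsNoetherian A M)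
    ⟨fun n => LinearMap.ker (LinearMap.lsmul A M (f ^ n)), fun a b hab x hx => by
      obtain ⟨c, rfl⟩ := Nat.exists_eq_add_of_le hab
      rw [LinearMap.mem_ker, LinearMap.lsmul_apply] at hx ⊢
      rw [pow_add, mul_comm, mul_smul, hx, smul_zero]⟩
  let μ : M →ₗ[A] M := LinearMap.lsmul A M (f ^ (k + 1))
  have hker : LinearMap.ker μ ≤ LinearMap.ker (h.hom ∘ₗ LinearMap.lsmul A M (f ^ k)) := fun x hx => by
    have hx' : x ∈ LinearMap.ker (LinearMap.lsmul A M (f ^ k)) := by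
      have := hk (k + 1) (Nat.le_succ k)
      exact this.ge hx
    rw [LinearMap.mem_ker] at hx' ⊢
    rw [LinearMap.comp_apply, hx', map_zero]
  let g₀ := (LinearMap.ker μ).liftQ (h.hom ∘ₗ LinearMap.lsmul A M (f ^ k)) hker
  obtain ⟨g, hg⟩ := (Module.Baer.of_injective hE).extension_property
    ((LinearMap.ker μ).liftQ μ le_rfl)
    (LinearMap.ker_eq_bot.1 (Submodule.ker_liftQ_eq_bot _ _ _ le_rfl)) g₀
  refine ⟨ModuleCat.ofHom g, mem_torsionSub_singleton.2
    ⟨k, ModuleCat.hom_ext (LinearMap.ext fun (x : M) => ?_)⟩⟩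
  have hx : g (f ^ (k + 1) • x) = h.hom (f ^ k • x) :=
    LinearMap.congr_fun hg (Submodule.Quotient.mk x)
  rw [map_smul] at hx
  show f ^ k • (h.hom x - f • g x) = 0
  have hx2 : h.hom (f ^ k • x) = f ^ k • h.hom x := map_smul h.hom (f ^ k) x
  rw [smul_sub, smul_smul, ← pow_succ, hx, hx2, sub_self]

theorem good_hom : ∀ (l : List A) (M : Type u) [AddCommGroup M] [Module A M] [Module.Finite A M]
    (E : ModuleCat.{u} A), Module.Injective A E →
    Good l (ModuleCat.of A (ModuleCat.of A M ⟶ E))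
  | [], _, _, _, _, _, _ => trivial
  | f :: l, M, _, _, _, E, hE => by
    refine ⟨div_hom f M E hE, good_of_iso l ?_
      (good_hom l M ((DRing.gammaI (Ideal.span {f})).obj E) (LocalCoh.injective_torsionSub (Ideal.span {f}) E))⟩
    exact (homTorsionEquiv (Ideal.span {f}) (ModuleCat.of A M) E).toModuleIso

end Good

variable (I : Ideal A) (q : PrimeSpectrum A)

/-- Cycles in degree `0` are torsion cycles up to boundaries and denominators. -/
def Surj (C : DRing.Cx A) : Prop :=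
  ∀ x : C.X 0, (C.d 0 1).hom x = 0 → ∃ t ∉ q.asIdeal, ∃ v : C.X (-1),
    t • x - (C.d (-1) 0).hom v ∈ DRing.torsionSub I (C.X 0)

/-- Torsion boundaries in degree `1` are boundaries of torsion elements up to denominators. -/
def Inj (C : DRing.Cx A) : Prop :=
  ∀ w : C.X 0, (C.d 0 1).hom w ∈ DRing.torsionSub I (C.X 1) →
    ∃ t ∉ q.asIdeal, ∃ u ∈ DRing.torsionSub I (C.X 0), (C.d 0 1).hom u = t • (C.d 0 1).hom w

variable {I q}

lemma d_mem {C : DRing.Cx A} {i j : ℤ} {x : C.X i} (hx : x ∈ DRing.torsionSub I (C.X i)) :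
    (C.d i j).hom x ∈ DRing.torsionSub I (C.X j) :=
  DRing.map_mem_torsionSub _ (C.d i j).hom hx

lemma d_d {C : DRing.Cx A} (i j k : ℤ) (x : C.X i) : (C.d j k).hom ((C.d i j).hom x) = 0 :=
  congr($(C.d_comp_d i j k) x)

/-- Transfer along a quasi-isomorphism preserved by `Γ_I`. -/
theorem surj_of_quasiIso {C L : DRing.Cx A} (r : C ⟶ L) [QuasiIso r] [QuasiIso ((gam I).map r)]
    (h : Surj I q L) : Surj I q C := by
  intro x hx
  have hx' : x ∈ Cyc C 0 := hx
  obtain ⟨t, ht, v, hv⟩ := h _ (map_mem_cyc 0 r hx')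
  have hcyc : (⟨_, hv⟩ : ((gam I).obj L).X 0) ∈ Cyc ((gam I).obj L) 0 := Subtype.ext (by
    show (L.d 0 1).hom (t • (r.f 0).hom x - (L.d (-1) 0).hom v) = 0
    rw [map_sub, map_smul, d_d, sub_zero, show (L.d 0 1).hom ((r.f 0).hom x) = 0 from
      map_mem_cyc 0 r hx', smul_zero])
  obtain ⟨c, hc⟩ := ((ConcreteCategory.isIso_iff_bijective
    (HomologicalComplex.homologyMap ((gam I).map r) 0)).1 inferInstance).2 (cls _ 0 ⟨_, hcyc⟩)
  obtain ⟨⟨γ, hγ⟩, rfl⟩ := cls_surjective ((gam I).obj C) 0 c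
  rw [homologyMap_cls, ← sub_eq_zero, ← map_sub, cls_eq_zero_iff] at hc
  obtain ⟨y, hy⟩ := hc
  let z : Cyc C 0 := ⟨t • x - γ.1, by
    rw [LinearMap.mem_ker, map_sub, map_smul, show (C.d 0 (0 + 1)).hom x = 0 from hx, smul_zero,
      zero_sub, neg_eq_zero]
    exact congrArg Subtype.val hγ⟩
  have hz : (HomologicalComplex.homologyMap r 0).hom (cls C 0 z) = 0 := by
    rw [homologyMap_cls, cls_eq_zero_iff]
    let y' : L.X (-1) := y.1
    refine ⟨v - y', ?_⟩
    show (L.d (-1) 0).hom (v - y') = (r.f 0).hom (t • x - γ.1)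
    rw [map_sub, map_sub, map_smul]
    have hy' : (L.d (-1) 0).hom y' =
        (r.f 0).hom γ.1 - (t • (r.f 0).hom x - (L.d (-1) 0).hom v) := congrArg Subtype.val hy
    rw [hy']
    abel
  obtain ⟨w, hw⟩ := (cls_eq_zero_iff C 0 z).1 (((ConcreteCategory.isIso_iff_bijective
    (HomologicalComplex.homologyMap r 0)).1 inferInstance).1 (hz.trans (map_zero _).symm))
  refine ⟨t, ht, w, ?_⟩
  rw [show (C.d (-1) 0).hom w = t • x - γ.1 from hw, sub_sub_cancel]
  exact γ.2

theorem inj_of_quasiIso {C L : DRing.Cx A} (r : C ⟶ L) [QuasiIso ((gam I).map r)]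
    (h : Inj I q L) : Inj I q C := by
  intro w hw
  have hr : (r.f 1).hom ((C.d 0 1).hom w) = (L.d 0 1).hom ((r.f 0).hom w) :=
    (congr($(r.comm 0 1) w)).symm
  obtain ⟨t, ht, u, hu, he⟩ := h ((r.f 0).hom w) (hr ▸ DRing.map_mem_torsionSub _ (r.f 1).hom hw)
  have hcyc : (t • ⟨_, hw⟩ : ((gam I).obj C).X 1) ∈ Cyc ((gam I).obj C) 1 := Subtype.ext (by
    show (C.d 1 (1 + 1)).hom (t • (C.d 0 1).hom w) = 0
    rw [map_smul, d_d, smul_zero])
  have h0 : (HomologicalComplex.homologyMap ((gam I).map r) 1).hom (cls _ 1 ⟨_, hcyc⟩) = 0 := by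
    rw [homologyMap_cls, cls_eq_zero_iff]
    refine ⟨⟨u, hu⟩, Subtype.ext ?_⟩
    show (L.d (1 - 1) 1).hom u = (r.f 1).hom (t • (C.d 0 1).hom w)
    rw [map_smul, hr]
    exact he
  obtain ⟨y, hy⟩ := (cls_eq_zero_iff _ 1 _).1 (((ConcreteCategory.isIso_iff_bijective
    (HomologicalComplex.homologyMap ((gam I).map r) 1)).1 inferInstance).1
      (h0.trans (map_zero _).symm))
  exact ⟨t, ht, y.1, y.2, congrArg Subtype.val hy⟩

/-- The submodules `I^n M`. -/
abbrev pw (I : Ideal A) (M : Type u) [AddCommGroup M] [Module A M] (n : ℕ) : Submodule A M :=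
  I ^ n • ⊤

variable (I) in
/-- The inclusion `I^m M ⊆ I^n M`. -/
abbrev incl (M : Type u) [AddCommGroup M] [Module A M] {n m : ℕ} (h : n ≤ m) :
    pw I M m →ₗ[A] pw I M n :=
  Submodule.inclusion (Submodule.smul_mono_left (Ideal.pow_le_pow_right h))

variable (I q) in
/-- Maps `I^n M → Y` die on smaller powers of `I` up to denominators. -/
def Ev (M : Type u) [AddCommGroup M] [Module A M] (Y : Dual.D A) : Prop :=
  ∀ (n : ℕ) (g : Dual.inD A (pw I M n) ⟶ Y), ∃ (m : ℕ) (h : n ≤ m),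
    ∃ t ∉ q.asIdeal, t • (KillHom.mp (incl I M h) ≫ g) = 0

/-- Maps out of `I^n M` in a complex of injectives. -/
theorem ev_of_complex (L : DRing.Cx A) [L.IsKInjective] (hL : ∀ n, Injective (L.X n))
    (M : Type u) [AddCommGroup M] [Module A M]
    (hs : Surj I q (Biduality.DC L (ModuleCat.of A M)))
    (hi : Inj I q (Biduality.DC L (ModuleCat.of A M))) : Ev I q M (DerivedCategory.Q.obj L) := by
  intro n g
  obtain ⟨⟨f, hf⟩, rfl⟩ := psi_surjective (M := ModuleCat.of A (pw I M n)) g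
  have := hL 0
  let ι : ModuleCat.of A (pw I M n) ⟶ ModuleCat.of A M := ModuleCat.ofHom (pw I M n).subtype
  have : Mono ι := (ModuleCat.mono_iff_injective _).2 Subtype.val_injective
  let y : ModuleCat.of A M ⟶ L.X 0 := Injective.factorThru f ι
  have hy : ι ≫ y = f := Injective.comp_factorThru f ι
  have hdy : (y ≫ L.d 0 1 : ModuleCat.of A M ⟶ L.X 1) ∈
      DRing.torsionSub I (ModuleCat.of A M ⟶ L.X 1) := by
    refine ⟨n, fun a ha => ModuleCat.hom_ext (LinearMap.ext fun (x : M) => ?_)⟩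
    show a • (L.d 0 1).hom (y.hom x) = 0
    have h1 : a • y.hom x = f.hom ⟨a • x, Submodule.smul_mem_smul ha trivial⟩ :=
      (map_smul y.hom a x).symm.trans (congr($hy ⟨a • x, Submodule.smul_mem_smul ha trivial⟩))
    rw [← map_smul, h1]
    exact congr($hf ⟨a • x, Submodule.smul_mem_smul ha trivial⟩)
  obtain ⟨t, ht, u, hu, he⟩ := hi y hdy
  let u' : ModuleCat.of A M ⟶ L.X 0 := u
  obtain ⟨t', ht', v, hv⟩ := hs (show ((Biduality.DC L (ModuleCat.of A M)).X 0) from t • y - u') (by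
    show (t • y - u') ≫ L.d 0 1 = 0
    have he' : u' ≫ L.d 0 1 = t • (y ≫ L.d 0 1) := he
    rw [Preadditive.sub_comp, Linear.smul_comp, he', sub_self])
  obtain ⟨k₁, hk₁⟩ := hu
  obtain ⟨k₂, hk₂⟩ := hv
  let m := n + (k₁ + k₂)
  let j : ModuleCat.of A (pw I M m) ⟶ ModuleCat.of A (pw I M n) :=
    ModuleCat.ofHom (incl I M (Nat.le_add_right n (k₁ + k₂)))
  let v' : ModuleCat.of A M ⟶ L.X (-1) := v
  have hjf : j ≫ f ∈ PreHom (ModuleCat.of A (pw I M m)) L := by
    show (j ≫ f) ≫ L.d 0 1 = 0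
    rw [Category.assoc, show f ≫ L.d 0 1 = 0 from hf, comp_zero]
  refine ⟨m, Nat.le_add_right n (k₁ + k₂), t' * t, q.isPrime.mul_notMem ht' ht, ?_⟩
  show (t' * t) • (KillHom.s0.map j ≫ psi _ L ⟨f, hf⟩) = 0
  rw [map_comp_psi j ⟨f, hf⟩ hjf, ← map_smul, psi_eq_zero_iff]
  let ι' : ModuleCat.of A (pw I M m) ⟶ ModuleCat.of A M := ModuleCat.ofHom (pw I M m).subtype
  refine ⟨ι' ≫ v', ModuleCat.hom_ext (LinearMap.ext fun x => ?_)⟩
  show (L.d (-1) 0).hom (v'.hom x.1) = (t' * t) • f.hom (incl I M (Nat.le_add_right n (k₁ + k₂)) x)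
  have h1 : f.hom (incl I M (Nat.le_add_right n (k₁ + k₂)) x) = y.hom x.1 :=
    (congr($hy (incl I M (Nat.le_add_right n (k₁ + k₂)) x))).symm
  rw [h1]
  obtain ⟨x, hx⟩ := x
  show (L.d (-1) 0).hom (v'.hom x) = (t' * t) • y.hom x
  refine Submodule.smul_induction_on hx (fun a ha z _ => ?_) (fun z w hz hw => ?_)
  ·
    have f₁ : a • u' = 0 := hk₁ a (Ideal.pow_le_pow_right (by omega) ha)
    have f₂ : a • (t' • (t • y - u') - v' ≫ L.d (-1) 0) = 0 :=
      hk₂ a (Ideal.pow_le_pow_right (by omega) ha)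
    have e₁ : a • u'.hom z = 0 := congr($f₁ z)
    have e₂ : a • (t' • (t • y.hom z - u'.hom z) - (L.d (-1) 0).hom (v'.hom z)) = 0 :=
      congr($f₂ z)
    rw [map_smul, map_smul, map_smul, ← sub_eq_zero, ← neg_sub, neg_eq_zero]
    rw [smul_sub a, sub_eq_zero] at e₂
    rw [← e₂, smul_sub t', smul_sub a, smul_comm a t' (u'.hom z), e₁, smul_zero, sub_zero,
      mul_smul, smul_comm t a, smul_comm t' a, sub_self]
  · rw [map_add, map_add, map_add, smul_add, hz, hw]

lemma mem_pw_self {n : ℕ} {a : A} : a ∈ pw I A n ↔ a ∈ I ^ n := by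
  rw [pw, Ideal.smul_eq_mul, Ideal.mul_top]

/-- The converse, for `M = A`. -/
theorem surj_inj_of_ev (L : DRing.Cx A) [L.IsKInjective] (hL : ∀ n, Injective (L.X n))
    (h : Ev I q A (DerivedCategory.Q.obj L)) : Surj I q L ∧ Inj I q L := by
  have key : ∀ (n : ℕ) (w : L.X 0), (∀ a ∈ I ^ n, a • (L.d 0 1).hom w = 0) →
      ∃ t ∉ q.asIdeal, ∃ v : L.X (-1),
        t • w - (L.d (-1) 0).hom v ∈ DRing.torsionSub I (L.X 0) := by
    intro n w hw
    let f : ModuleCat.of A (pw I A n) ⟶ L.X 0 :=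
      ModuleCat.ofHom (LinearMap.toSpanSingleton A (L.X 0) w ∘ₗ (pw I A n).subtype)
    have hf : f ∈ PreHom (ModuleCat.of A (pw I A n)) L := by
      refine ModuleCat.hom_ext (LinearMap.ext fun x => ?_)
      show (L.d 0 1).hom (x.1 • w) = 0
      rw [map_smul]
      exact hw _ (mem_pw_self.1 x.2)
    obtain ⟨m, hnm, t, ht, h0⟩ := h n (psi _ L ⟨f, hf⟩)
    let j : ModuleCat.of A (pw I A m) ⟶ ModuleCat.of A (pw I A n) :=
      ModuleCat.ofHom (incl I A hnm)
    have hjf : j ≫ f ∈ PreHom (ModuleCat.of A (pw I A m)) L := by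
      show (j ≫ f) ≫ L.d 0 1 = 0
      rw [Category.assoc, show f ≫ L.d 0 1 = 0 from hf, comp_zero]
    rw [show KillHom.mp (incl I A hnm) = KillHom.s0.map j from rfl] at h0
    have h0' : psi _ L (t • ⟨j ≫ f, hjf⟩) = 0 := by
      rw [map_smul, ← map_comp_psi j ⟨f, hf⟩ hjf]
      exact h0
    obtain ⟨g, hg⟩ := (psi_eq_zero_iff _).1 h0'
    have := hL (-1)
    let ι : ModuleCat.of A (pw I A m) ⟶ ModuleCat.of A A := ModuleCat.ofHom (pw I A m).subtype
    have : Mono ι := (ModuleCat.mono_iff_injective _).2 Subtype.val_injective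
    let G : ModuleCat.of A A ⟶ L.X (-1) := Injective.factorThru g ι
    refine ⟨t, ht, G.hom 1, m, fun a ha => ?_⟩
    have ha' : a ∈ pw I A m := mem_pw_self.2 ha
    have h1 : g.hom ⟨a, ha'⟩ = a • G.hom 1 := by
      rw [← map_smul, smul_eq_mul, mul_one]
      exact (congr($(Injective.comp_factorThru g ι) ⟨a, ha'⟩)).symm
    have h2 : (L.d (-1) 0).hom (g.hom ⟨a, ha'⟩) = t • (a • w) := congr($hg ⟨a, ha'⟩)
    rw [smul_sub, ← map_smul, ← h1, h2, smul_comm, sub_self]
  constructor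
  · intro x hx
    exact key 0 x fun a _ => by rw [hx, smul_zero]
  · rintro w ⟨n, hn⟩
    obtain ⟨t, ht, v, hv⟩ := key n w hn
    refine ⟨t, ht, _, hv, ?_⟩
    rw [map_sub, map_smul, d_d, sub_zero]

end Groth.Agent.Lib.ProZero.Complex
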