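import Groth.Agent.Lib.ProZero.Complex
import Groth.Agent.Lib.RGamma.HTExt
import Groth.Agent.Lib.LocalCoh.Killed
import Groth.Agent.Lib.LCFin.Seq
import Groth.Agent.Lib.DMod.HomSupp

/-!
# Maps out of `I^n M` into a dualizing complex die on small powers of `I`
-/

universe u

open CategoryTheory CategoryTheory.Limits Pretriangulated

attribute [local instance] HasDerivedCategory.standard

namespace Groth.Agent.Lib.ProZero.EvCrit

open Groth.Agent.Lib.DMod Groth.Agent.Lib.RGamma Groth.Agent.Lib.ProZero.Complex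
open Groth.Agent.Lib.RGamma.HDT (qq)
open Groth.Agent.Lib.RGamma.KillHom (mp mp_comp s0)

variable {A : Type u} [CommRing A] {I : Ideal A} {q : PrimeSpectrum A}

lemma incl_comp (M : Type u) [AddCommGroup M] [Module A M] {n m l : ℕ} (h : n ≤ m) (h' : m ≤ l) :
    incl I M h ∘ₗ incl I M h' = incl I M (h.trans h') := rfl

section Ev

variable {M : Type u} [AddCommGroup M] [Module A M]

theorem ev_of_iso {X Y : Dual.D A} (e : X ≅ Y) (h : Ev I q M X) : Ev I q M Y := fun n g => by
  obtain ⟨m, hm, t, ht, h0⟩ := h n (g ≫ e.inv)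
  refine ⟨m, hm, t, ht, (cancel_mono e.inv).1 ?_⟩
  rw [Linear.smul_comp, Category.assoc, zero_comp]
  exact h0

theorem ev_of_triangle (S : Triangle (Dual.D A)) (hS : S ∈ distTriang (Dual.D A))
    (h₁ : Ev I q M S.obj₁) (h₃ : Ev I q M S.obj₃) : Ev I q M S.obj₂ := fun n g => by
  obtain ⟨m, hm, t, ht, h0⟩ := h₃ n (g ≫ S.mor₂)
  rw [← Category.assoc, ← Linear.smul_comp] at h0
  obtain ⟨l, hl⟩ := Triangle.coyoneda_exact₂ S hS _ h0
  obtain ⟨m', hm', t', ht', h0'⟩ := h₁ m l
  refine ⟨m', hm.trans hm', t' * t, q.isPrime.mul_notMem ht' ht, ?_⟩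
  rw [← incl_comp M hm hm', mp_comp, Category.assoc, mul_smul, ← Linear.comp_smul, hl,
    ← Category.assoc, ← Linear.smul_comp, h0', zero_comp]

theorem ev_of_subsingleton {Y : Dual.D A}
    (h : ∀ n, Subsingleton (Dual.inD A (pw I M n) ⟶ Y)) : Ev I q M Y :=
  fun n g => ⟨n, le_rfl, 1, q.isPrime.one_notMem, by
    rw [(h n).elim g 0, comp_zero, smul_zero]⟩

end Ev

variable [IsNoetherianRing A]

omit [IsNoetherianRing A] in
lemma exists_rep_hdi (K : Dual.D A) (i : ℤ) (y : Dual2.HDI A I K i) :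
    ∃ (k : ℕᵒᵖᵒᵖ) (g : Dual.inD A (A ⧸ I ^ k.unop.unop) ⟶ K⟦i⟧),
      (colimit.ι ((localCohomology.ringModIdeals (localCohomology.idealPowersDiagram I) ⋙
        DerivedCategory.singleFunctor (ModuleCat.{u} A) 0).op ⋙
          (linearYoneda A (Dual.D A)).obj (K⟦i⟧)) k).hom g = y := by
  have := colimit_rep _ y
  exact this

/-- Vanishing at `q` of local cohomology kills `HDI` up to denominators. -/
theorem exists_smul_hdi_eq_zero (N : Type u) [AddCommGroup N] [Module A N] (k : ℕ)
    (h : q ∉ Module.support A (LocCoh.H I k N)) (y : Dual2.HDI A I (Dual.inD A N) (k : ℤ)) :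
    ∃ t ∉ q.asIdeal, t • y = 0 := by
  obtain ⟨j, g, rfl⟩ := exists_rep_hdi (Dual.inD A N) (k : ℤ) y
  let Nc := ModuleCat.of A N
  let X : ModuleCat.{u} A := ((LocalCoh.quotSys I).obj j).unop
  obtain ⟨α, rfl⟩ := (HDT.toD X Nc k).surjective g
  let e := ((LocalCoh.lcIso I k).app Nc).toLinearEquiv
  obtain ⟨t, ht, ht0⟩ := Module.notMem_support_iff'.1 h
    (e.symm ((LocalCoh.colimExt.ι (LocalCoh.quotSys I) k j Nc).hom α))
  rw [← map_smul, ← map_smul, LinearEquiv.map_eq_zero_iff] at ht0
  obtain ⟨j', f, hf⟩ := (LocalCoh.colimExt.ι_eq_zero_iff _ k Nc j (t • α)).1 ht0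
  let G := (localCohomology.ringModIdeals (localCohomology.idealPowersDiagram I) ⋙
      DerivedCategory.singleFunctor (ModuleCat.{u} A) 0).op ⋙
        (linearYoneda A (Dual.D A)).obj ((Dual.inD A N)⟦(k : ℤ)⟧)
  let g : G.obj j := HDT.toD X Nc k α
  refine ⟨t, ht, (map_smul (colimit.ι G j).hom t g).symm.trans
    ((ConcreteCategory.congr_hom (colimit.w G f) (t • g)).symm.trans ?_)⟩
  refine (congrArg (colimit.ι G j').hom ?_).trans (map_zero _)
  have e₁ : HDT.toD X Nc k (t • α) = t • HDT.toD X Nc k α := map_smul _ t α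
  refine (congrArg (fun z => s0.map ((LocalCoh.quotSys I).map f).unop ≫ z) e₁.symm).trans ?_
  refine ((HDT.toD_comp ((LocalCoh.quotSys I).map f).unop k (t • α)).symm.trans ?_)
  rw [hf, map_zero]
  rfl

/-- The modules allowed in degree `b`. -/
def Cond (I : Ideal A) (q : PrimeSpectrum A) (N : Type u) [AddCommGroup N] [Module A N] (b : ℤ) :
    Prop :=
  (b = 0 → ∃ t ∉ q.asIdeal, ∃ k : ℕ, ∀ c ∈ I ^ k, ∀ x : N, t • (c • x) = 0) ∧
    (b < 0 → q ∉ Module.support A (LocCoh.H I (1 - b).toNat N))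

theorem cond_congr {N N' : Type u} [AddCommGroup N] [Module A N] [AddCommGroup N'] [Module A N']
    (e : N ≃ₗ[A] N') {b : ℤ} (h : Cond I q N b) : Cond I q N' b := by
  refine ⟨fun hb => ?_, fun hb => ?_⟩
  · obtain ⟨t, ht, k, hk⟩ := h.1 hb
    exact ⟨t, ht, k, fun c hc x => e.symm.injective (by
      rw [map_smul, map_smul, map_zero]; exact hk c hc _)⟩
  · exact HomSupp.notMem_support_equiv (LocalCoh.lcLinearEquiv I _ e) (h.2 hb)

/-- A module in one degree. -/
theorem ev_inD_shift (N : Type u) [AddCommGroup N] [Module A N] (n : ℤ) (h : Cond I q N (-n)) :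
    Ev I q A ((Dual.inD A N)⟦n⟧) := by
  rcases lt_trichotomy n 0 with hn | rfl | hn
  · exact ev_of_subsingleton fun m => Basic.subsingleton_hom_inD_neg (A := A) _ N hn
  · refine ev_of_iso ((shiftFunctorZero (Dual.D A) ℤ).app (Dual.inD A N)).symm fun m g => ?_
    obtain ⟨t, ht, k, hk⟩ := h.1 neg_zero
    obtain ⟨f, rfl⟩ : ∃ f : pw I A m →ₗ[A] N, mp f = g := by
      obtain ⟨f, hf⟩ := s0.map_surjective g
      exact ⟨f.hom, hf⟩
    refine ⟨m + k, Nat.le_add_right m k, t, ht, ?_⟩
    rw [← mp_comp, mp, ← Functor.map_smul]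
    suffices h0 : t • (f ∘ₗ incl I A (Nat.le_add_right m k)) = 0 by
      rw [show t • ModuleCat.ofHom (f ∘ₗ incl I A (Nat.le_add_right m k)) = 0 from
        ModuleCat.hom_ext h0, Functor.map_zero]
    refine LinearMap.ext fun x => ?_
    obtain ⟨x, hx⟩ := x
    have hx' : x ∈ I ^ k * I ^ m := by
      rw [← pow_add, add_comm]
      exact mem_pw_self.1 hx
    show t • f ⟨x, _⟩ = 0
    generalize hp : (⟨x, _⟩ : pw I A m) = z
    have hz : z.1 ∈ I ^ k * I ^ m := by rw [← hp]; exact hx'
    clear hp hx'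
    suffices ∀ y ∈ I ^ k * I ^ m, ∀ (hy : y ∈ pw I A m), t • f ⟨y, hy⟩ = 0 from this z.1 hz z.2
    intro y hy
    induction hy using Submodule.mul_induction_on' with
    | mem_mul_mem c hc d hd =>
      intro hy
      have : (⟨c * d, hy⟩ : pw I A m) = c • ⟨d, mem_pw_self.2 hd⟩ := rfl
      rw [this, map_smul]
      exact hk c hc _
    | add u hu v hv hu' hv' =>
      intro hy
      have hu₂ : u ∈ pw I A m := mem_pw_self.2 (Ideal.mul_le_right hu)
      have hv₂ : v ∈ pw I A m := mem_pw_self.2 (Ideal.mul_le_right hv)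
      rw [show (⟨u + v, hy⟩ : pw I A m) = ⟨u, hu₂⟩ + ⟨v, hv₂⟩ from rfl, map_add, smul_add,
        hu' hu₂, hv' hv₂, add_zero]
  · obtain ⟨L, hL, hinj, ⟨e⟩⟩ := RGamma.exists_rep ((Dual.inD A N)⟦n⟧)
    refine ev_of_iso e.symm (ev_of_complex L hinj A ?_ ?_)
    all_goals
      obtain ⟨e'⟩ : Nonempty (Biduality.DC L (ModuleCat.of A A) ≅ L) := by
        have : ∀ i, IsIso ((Biduality.η (ModuleCat.of A A) (1 : A)).app (L.X i)) := fun i => by
          refine (ConcreteCategory.isIso_iff_bijective _).2 ⟨fun x y h => ?_, fun x => ?_⟩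
          · exact ModuleCat.hom_ext (LinearMap.ext_ring h)
          · exact ⟨ModuleCat.ofHom (LinearMap.toSpanSingleton A _ x), one_smul A x⟩
        have : IsIso (Biduality.ev L (ModuleCat.of A A) (1 : A)) := by
          have : ∀ i, IsIso ((Biduality.ev L (ModuleCat.of A A) (1 : A)).f i) := this
          exact HomologicalComplex.Hom.isIso_of_components _
        exact ⟨asIso (Biduality.ev L (ModuleCat.of A A) (1 : A))⟩
    · refine surj_of_quasiIso e'.hom fun x hx => ⟨1, q.isPrime.one_notMem, ?_⟩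
      have : Subsingleton (L.homology 0) := by
        have : Subsingleton (Dual.HD A ((Dual.inD A N)⟦n⟧) 0) := by
          have := Basic.subsingleton_HD_inD (A := A) N (i := n) hn.ne'
          exact (Basic.HDShift _ n 0 n (add_zero n)).toEquiv.subsingleton
        exact ((DerivedCategory.homologyFunctor (ModuleCat.{u} A) 0).mapIso e ≪≫
          hdIso L 0).toLinearEquiv.symm.toEquiv.subsingleton
      obtain ⟨v, hv⟩ := (cls_eq_zero_iff L 0 ⟨x, hx⟩).1 (Subsingleton.elim _ _)
      refine ⟨v, ?_⟩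
      rw [one_smul, show (L.d (-1) 0).hom v = x from hv, sub_self]
      exact zero_mem _
    · refine inj_of_quasiIso e'.hom fun w hw => ?_
      obtain ⟨e₁⟩ := nonempty_HDI_equiv_homology I L e 1
      let e₂ : Dual2.HDI A I ((Dual.inD A N)⟦n⟧) 1 ≃ₗ[A]
          Dual2.HDI A I (Dual.inD A N) ((1 + n).toNat : ℤ) :=
        (HasColimit.isoOfNatIso (Functor.isoWhiskerLeft _
          ((linearYoneda A (Dual.D A)).mapIso ((shiftFunctorAdd' (Dual.D A) n 1
            ((1 + n).toNat : ℤ) (by omega)).app (Dual.inD A N)).symm))).toLinearEquiv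
      have hcyc : (⟨_, hw⟩ : ((gam I).obj L).X 1) ∈ Cyc ((gam I).obj L) 1 := Subtype.ext (by
        show (L.d 1 (1 + 1)).hom ((L.d 0 1).hom w) = 0
        exact d_d _ _ _ w)
      obtain ⟨t, ht, h0⟩ := exists_smul_hdi_eq_zero N (1 + n).toNat (by
        have := h.2 (by omega)
        rwa [show (1 - -n).toNat = (1 + n).toNat by rw [sub_neg_eq_add]] at this)
        (e₂ (e₁.symm (cls _ 1 ⟨_, hcyc⟩)))
      rw [← map_smul, ← map_smul, LinearEquiv.map_eq_zero_iff, LinearEquiv.map_eq_zero_iff,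
        ← map_smul, cls_eq_zero_iff] at h0
      obtain ⟨u, hu⟩ := h0
      exact ⟨t, ht, u.1, u.2, congrArg Subtype.val hu⟩

/-- Devissage on the cohomology. -/
theorem ev_of_bounded : ∀ (k : ℕ) (a : ℤ) (K : Dual.D A),
    (∀ i, i < a ∨ a + (k : ℤ) ≤ i → Subsingleton (Dual.HD A K i)) →
    (∀ i, Cond I q (Dual.HD A K i) i) → Ev I q A K := by
  intro k
  induction k with
  | zero =>
    intro a K h _
    have hz : IsZero K := (Basic.isZero_iff_HD K).2 fun i => h i (by omega)
    exact ev_of_subsingleton fun n => ⟨fun f g => hz.eq_of_tgt f g⟩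
  | succ k ih =>
    intro a K h hK
    obtain ⟨S, hS, hS₂, hS₁, hS₃, h₁, h₃⟩ := Devissage.exists_trunc K a
    subst hS₂
    refine ev_of_triangle S hS ?_ (ih (a + 1) S.obj₃ (fun i hi => ?_) fun i => ?_)
    · have hge : S.obj₁.IsGE a := (Basic.isGE_iff _ a).2 fun i hi => by
        obtain ⟨e⟩ := h₁ i hi.le
        have := h i (Or.inl hi)
        exact e.toEquiv.subsingleton
      obtain ⟨e⟩ := Devissage.exists_iso_inD_shift S.obj₁ a
      obtain ⟨e₁⟩ := h₁ a le_rfl
      exact ev_of_iso e.symm (ev_inD_shift _ (-a) (by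
        rw [neg_neg]
        exact cond_congr e₁.symm (hK a)))
    · by_cases hia : a < i
      · obtain ⟨e⟩ := h₃ i hia
        have := h i (by omega)
        exact e.symm.toEquiv.subsingleton
      · exact Basic.subsingleton_HD_of_isGE _ (a + 1) (by omega)
    · by_cases hia : a < i
      · obtain ⟨e⟩ := h₃ i hia
        exact cond_congr e (hK i)
      · have := Basic.subsingleton_HD_of_isGE S.obj₃ (a + 1) (i := i) (by omega)
        exact ⟨fun _ => ⟨1, q.isPrime.one_notMem, 0, fun c _ x => Subsingleton.elim _ _⟩,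
          fun _ => Module.notMem_support_iff'.2 fun y => ⟨1, q.isPrime.one_notMem, by
            have : Subsingleton (LocCoh.H I (1 - i).toNat (Dual.HD A S.obj₃ i)) :=
              ModuleCat.subsingleton_of_isZero ((localCohomology I _).map_isZero
                (ModuleCat.isZero_of_subsingleton _))
            exact Subsingleton.elim _ _⟩⟩

/-- `H⁰` of `Hom(M, J)` is `Hom(M[0], J)`. -/
theorem nonempty_homology_zero_equiv (J : DRing.Cx A) [J.IsKInjective] (M : ModuleCat.{u} A) :
    Nonempty ((Biduality.DC J M).homology 0 ≃ₗ[A] (Dual.inD A M ⟶ DerivedCategory.Q.obj J)) := by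
  have heq : ∀ z : Cyc (Biduality.DC J M) 0, (z.1 : M ⟶ J.X 0) ∈ PreHom M J := fun z => z.2
  let π : Cyc (Biduality.DC J M) 0 →ₗ[A] PreHom M J :=
    LinearMap.codRestrict _ (Cyc (Biduality.DC J M) 0).subtype heq
  have hπ : Function.Surjective (psi M J ∘ₗ π) := fun g => by
    obtain ⟨f, rfl⟩ := psi_surjective (M := M) g
    exact ⟨⟨f.1, f.2⟩, rfl⟩
  have hker : LinearMap.ker (psi M J ∘ₗ π) = LinearMap.ker (cls (Biduality.DC J M) 0) := by
    ext z
    simp only [LinearMap.mem_ker, cls_eq_zero_iff, LinearMap.comp_apply, psi_eq_zero_iff]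
    exact Iff.rfl
  exact ⟨((LinearMap.quotKerEquivOfSurjective _ (cls_surjective _ 0)).symm.trans
    (Submodule.quotEquivOfEq _ _ hker.symm)).trans (LinearMap.quotKerEquivOfSurjective _ hπ)⟩

/-- The cohomology of `Hom(M, J)`. -/
theorem nonempty_homology_equiv (J : DRing.Cx A) [J.IsKInjective] (M : ModuleCat.{u} A) (b : ℤ) :
    Nonempty ((Biduality.DC J M).homology b ≃ₗ[A]
      (Dual.inD A M ⟶ (DerivedCategory.Q.obj J)⟦b⟧)) := by
  obtain ⟨e₀⟩ := nonempty_homology_zero_equiv (J⟦b⟧) M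
  let e₁ := (HomologicalComplex.homologyFunctor (ModuleCat.{u} A) (ComplexShape.up ℤ) 0).mapIso
      (((Biduality.F M).mapHomologicalComplex (ComplexShape.up ℤ)).commShiftIso b |>.app J) ≪≫
    ((HomologicalComplex.homologyFunctor (ModuleCat.{u} A) (ComplexShape.up ℤ) 0).shiftIso
      b 0 b (add_zero b)).app (Biduality.DC J M)
  exact ⟨e₁.symm.toLinearEquiv.trans (e₀.trans (Linear.homCongr A (Iso.refl _)
    ((DerivedCategory.Q.commShiftIso b).app J)))⟩

/-- The criterion on the dual modules. -/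
theorem ev_of_dual (J : DRing.Cx A) [J.IsKInjective] (hJ : ∀ n, Injective (J.X n))
    (a₀ b₀ : ℤ) (hb : ∀ i, i < a₀ ∨ b₀ < i → IsZero (J.X i)) (M : Type u) [AddCommGroup M]
    [Module A M] [Module.Finite A M]
    (hcond : ∀ b : ℤ, Cond I q ((Biduality.DC J (ModuleCat.of A M)).homology b) b) :
    Ev I q M (DerivedCategory.Q.obj J) := by
  let C := Biduality.DC J (ModuleCat.of A M)
  obtain ⟨L, r, hL, hr, hinj⟩ := exists_res C
  obtain ⟨l, hl⟩ := exists_ide_eq (IsNoetherian.noetherian I)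
  have : QuasiIso ((gam I).map r) := quasiIso_gam_map l hl r
    (fun i => good_hom l M (J.X i) (Module.injective_module_of_injective_object A _ (inj := hJ i)))
    (fun i => good_of_injective l _ (Module.injective_module_of_injective_object A _ (inj := hinj i)))
  have hev : Ev I q A (DerivedCategory.Q.obj L) := by
    refine ev_of_iso (asIso (DerivedCategory.Q.map r))
      (ev_of_bounded (b₀ + 1 - a₀).toNat a₀ _ (fun i hi => ?_) fun i =>
        cond_congr (hdIso C i).toLinearEquiv.symm (hcond i))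
    have : Subsingleton (C.homology i) := ModuleCat.subsingleton_of_isZero
      (HomologicalComplex.ExactAt.isZero_homology (HomologicalComplex.ExactAt.of_isZero
        (Biduality.isZero_X_DC J _ (hb i (by omega)))))
    exact (hdIso C i).toLinearEquiv.toEquiv.subsingleton
  obtain ⟨hs, hi⟩ := surj_inj_of_ev L hinj hev
  exact ev_of_complex J hJ M (surj_of_quasiIso r hs) (inj_of_quasiIso r hi)

/-- A finite module whose support below `q` lies in `V(I)` is torsion at `q`. -/
theorem exists_torsion (N : Type u) [AddCommGroup N] [Module A N] [Module.Finite A N]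
    (h : ∀ p ∈ Module.support A N, p ≤ q → I ≤ p.asIdeal) :
    ∃ t ∉ q.asIdeal, ∃ k : ℕ, ∀ c ∈ I ^ k, ∀ x : N, t • (c • x) = 0 := by
  classical
  let S := (Ideal.finite_minimalPrimes_of_isNoetherianRing A (Module.annihilator A N)).toFinset
  let P₀ := ∏ P ∈ S.filter (fun P => ¬ P ≤ q.asIdeal), P
  obtain ⟨t, htP, htq⟩ : ∃ t ∈ P₀, t ∉ q.asIdeal := by
    by_contra hc
    push Not at hc
    obtain ⟨P, hP, hPq⟩ := (Ideal.IsPrime.prod_le q.isPrime).1 hc
    exact (Finset.mem_filter.1 hP).2 hPq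
  obtain ⟨k, hk⟩ := Ideal.exists_pow_le_of_le_radical_of_fg_radical
    (I := Ideal.span {t} * I) (J := Module.annihilator A N) (by
      rw [← Ideal.sInf_minimalPrimes]
      refine le_sInf fun P hP => ?_
      have hPp : P.IsPrime := hP.1.1
      by_cases hPq : P ≤ q.asIdeal
      · refine Ideal.mul_le_right.trans (h ⟨P, hPp⟩ ?_ hPq)
        rw [Module.support_eq_zeroLocus, PrimeSpectrum.mem_zeroLocus]
        exact hP.1.2
      · refine Ideal.mul_le_left.trans ((Ideal.span_singleton_le_iff_mem _).2 ?_)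
        exact (Ideal.prod_le_inf.trans (Finset.inf_le (f := fun P => P)
          (Finset.mem_filter.2 ⟨(Set.Finite.mem_toFinset _).2 hP, hPq⟩))) htP)
    (IsNoetherian.noetherian _)
  refine ⟨t ^ k, fun hh => htq (q.isPrime.mem_of_pow_mem k hh), k, fun c hc x => ?_⟩
  rw [smul_smul]
  refine Module.mem_annihilator.1 (hk ?_) x
  rw [mul_pow, Ideal.span_singleton_pow]
  exact Ideal.mul_mem_mul (Ideal.mem_span_singleton_self _) hc

/-- Devissage for the vanishing of local cohomology at `q`. -/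
theorem notMem_support_H (i : ℕ) (N : Type u) [AddCommGroup N] [Module A N] [Module.Finite A N]
    (h : ∀ p ∈ Module.support A N, p ≤ q → q ∉ Module.support A (LocCoh.H I i (A ⧸ p.asIdeal))) :
    q ∉ Module.support A (LocCoh.H I i N) := by
  suffices key : (∀ p ∈ Module.support A N, p ≤ q →
      q ∉ Module.support A (LocCoh.H I i (A ⧸ p.asIdeal))) →
      q ∉ Module.support A (LocCoh.H I i N) from key h
  refine IsNoetherianRing.induction_on_isQuotientEquivQuotientPrime (A := A) (M := N) inferInstance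
    (motive := fun N _ _ _ => (∀ p ∈ Module.support A N, p ≤ q →
      q ∉ Module.support A (LocCoh.H I i (A ⧸ p.asIdeal))) →
      q ∉ Module.support A (LocCoh.H I i N)) ?_ ?_ ?_
  · intro N _ _ _ _ _
    have : Subsingleton (LocCoh.H I i N) :=
      ModuleCat.subsingleton_of_isZero ((localCohomology I i).map_isZero
        (ModuleCat.isZero_of_subsingleton _))
    simp [Module.support_eq_empty]
  · intro N _ _ _ p e hp
    refine HomSupp.notMem_support_equiv (LocalCoh.lcLinearEquiv I i e.symm) ?_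
    by_cases hpq : p ≤ q
    · exact hp p (by rw [e.support_eq, HomSupp.mem_support_quotient_prime]) hpq
    · obtain ⟨t, htp, htq⟩ := SetLike.not_le_iff_exists.1 (show ¬ p.asIdeal ≤ q.asIdeal from hpq)
      refine Module.notMem_support_iff'.2 fun y => ⟨t, htq, ?_⟩
      rw [← LCFin.Seq.Hmap_lsmul, show LinearMap.lsmul A (A ⧸ p.asIdeal) t = 0 from
        LinearMap.ext fun x => by
          obtain ⟨x, rfl⟩ := Submodule.Quotient.mk_surjective _ x
          show t • (Submodule.Quotient.mk x : A ⧸ p.asIdeal) = 0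
          rw [← Submodule.Quotient.mk_smul, Submodule.Quotient.mk_eq_zero]
          exact Ideal.mul_mem_right x _ htp]
      show ((localCohomology I i).map
        (0 : ModuleCat.of A (A ⧸ p.asIdeal) ⟶ ModuleCat.of A (A ⧸ p.asIdeal))).hom y = 0
      rw [Functor.map_zero]
      rfl
  · intro N₁ _ _ _ N₂ _ _ _ N₃ _ _ _ f g hf hg hfg ih₁ ih₃ hN₂
    exact HomSupp.notMem_support_of_exact (LCFin.Seq.exact_map_map I hf hg hfg i)
      (ih₁ fun p hp => hN₂ p (Module.support_subset_of_injective f hf hp))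
      (ih₃ fun p hp => hN₂ p (Module.support_subset_of_surjective g hg hp))

end Groth.Agent.Lib.ProZero.EvCrit
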