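import Groth.Agent.Lib.RGamma.KillHom

/-!
# Systems of objects whose transition maps kill maps from modules supported in `T`
-/

universe u

open CategoryTheory CategoryTheory.Limits Pretriangulated

attribute [local instance] HasDerivedCategory.standard

namespace Groth.Agent.Lib.ProZero.KillMap

open Groth.Agent.Lib.RGamma.HDT Groth.Agent.Lib.RGamma.KillHom Groth.Agent.Lib.DMod

variable {A : Type u} [CommRing A]

lemma shiftOne_natural {X Y Y' : Dual.D A} (α : Y ⟶ Y') (i j : ℤ) (h : i + 1 = j)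
    (z : X ⟶ Y⟦i⟧) :
    HomSupp.shiftOne X Y' i j h (z ≫ α⟦i⟧') = HomSupp.shiftOne X Y i j h z ≫ α⟦j⟧' := by
  simp [HomSupp.shiftOne, Basic.homShiftAdj, Basic.homShiftEquiv, Linear.homCongr,
    Functor.mapLinearMap, Functor.map_comp]
  exact congrArg (z⟦(1 : ℤ)⟧' ≫ ·)
    ((shiftFunctorAdd' (Dual.D A) i 1 j (by lia)).inv.naturality α)

lemma conn_natural (S : Triangle (Dual.D A)) {Y Y' : Dual.D A} (α : Y ⟶ Y') (i j : ℤ)
    (h : i + 1 = j) (z : S.obj₁ ⟶ Y⟦i⟧) :
    HomSupp.conn S Y' i j h (z ≫ α⟦i⟧') = HomSupp.conn S Y i j h z ≫ α⟦j⟧' := by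
  show S.mor₃ ≫ HomSupp.shiftOne _ Y' i j h (z ≫ α⟦i⟧') =
    (S.mor₃ ≫ HomSupp.shiftOne _ Y i j h z) ≫ α⟦j⟧'
  rw [shiftOne_natural]
  exact (Category.assoc _ _ _).symm

section SES

variable {M₁ M₂ M₃ : Type u} [AddCommGroup M₁] [Module A M₁] [AddCommGroup M₂] [Module A M₂]
  [AddCommGroup M₃] [Module A M₃] {f : M₁ →ₗ[A] M₂} {g : M₂ →ₗ[A] M₃}
  (hf : Function.Injective f) (hg : Function.Surjective g) (hfg : Function.Exact f g)

include hf hg hfg

lemma comp_eq_zero_of_left {Y Y' : Dual.D A} {α : Y ⟶ Y'} {i j : ℤ} (h : i + 1 = j)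
    (hα : ∀ z : Dual.inD A M₁ ⟶ Y⟦i⟧, z ≫ α⟦i⟧' = 0) (y : Dual.inD A M₃ ⟶ Y⟦j⟧)
    (hy : mp g ≫ y = 0) : y ≫ α⟦j⟧' = 0 := by
  obtain ⟨S, hS, rfl⟩ := exists_ses hf hg hfg
  obtain ⟨z, hz⟩ := (HomSupp.exact_conn_leftComp hS.singleTriangle_distinguished Y i j h y).1 hy
  have e := conn_natural hS.singleTriangle α i j h z
  rw [hz] at e
  refine e.symm.trans ?_
  exact (congrArg (HomSupp.conn hS.singleTriangle Y' i j h) (hα z)).trans (map_zero _)

lemma comp_eq_zero_of_right {X Y : Dual.D A} {α : X ⟶ Y}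
    (hα : ∀ z : Dual.inD A M₃ ⟶ X, z ≫ α = 0) (y : Dual.inD A M₂ ⟶ X)
    (hy : mp f ≫ y = 0) : y ≫ α = 0 := by
  obtain ⟨S, hS, rfl⟩ := exists_ses hf hg hfg
  obtain ⟨z, hz⟩ := (Basic.exact_leftComp hS.singleTriangle_distinguished X y).1 hy
  rw [← hz]
  show (hS.singleTriangle.mor₂ ≫ z) ≫ α = 0
  exact (Category.assoc _ _ _).trans ((congrArg _ (hα z)).trans comp_zero)

end SES

variable (K : ℕ → Dual.D A) (φ : ∀ n m : ℕ, n ≤ m → (K m ⟶ K n))

/-- Composition of the transition maps. -/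
def Compat : Prop :=
  ∀ {n m l : ℕ} (h : n ≤ m) (h' : m ≤ l), φ _ _ (h.trans h') = φ _ _ h' ≫ φ _ _ h

variable {K φ} (hφ : Compat K φ)

include hφ in
lemma comp_shift {n m l : ℕ} (h : n ≤ m) (h' : m ≤ l) (i : ℤ) :
    (φ _ _ (h.trans h'))⟦i⟧' = (φ _ _ h')⟦i⟧' ≫ (φ _ _ h)⟦i⟧' := by
  rw [hφ h h', Functor.map_comp]

variable (K φ) in
/-- The transition maps to level `n` from level `μ n` kill the classes in the limit. -/
def ProKill (T : Set (PrimeSpectrum A)) (s : ℤ) (μ : ℕ → ℕ) (hμ : ∀ n, n ≤ μ n) : Prop :=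
  ∀ n, ∀ i ≤ s, ∀ (J : Ideal A), mem T J → ∀ g : qD J ⟶ (K (μ n))⟦i⟧,
    ∃ (J' : Ideal A) (_ : mem T J') (hle : J' ≤ J),
      s0.map (qq hle) ≫ g ≫ (φ _ _ (hμ n))⟦i⟧' = 0

omit [CommRing A] in
lemma le_iterate {μ : ℕ → ℕ} (hμ : ∀ n, n ≤ μ n) : ∀ N n, n ≤ μ^[N] n
  | 0, _ => le_rfl
  | N + 1, n => (le_iterate hμ N n).trans ((hμ _).trans (Function.iterate_succ_apply' μ N n).ge)

variable [IsNoetherianRing A] {T : Set (PrimeSpectrum A)}

include hφ in
/-- Killing the classes in the limit kills the maps from finite modules. -/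
theorem kill_hom {a s : ℤ} (hK : ∀ n, (K n).IsGE a) {μ : ℕ → ℕ} {hμ : ∀ n, n ≤ μ n}
    (hkill : ProKill K φ T s μ hμ) :
    ∀ (N : ℕ) (n m : ℕ) (_ : m = μ^[N] n) (h : n ≤ m), ∀ i ≤ s, i < a + N →
      ∀ (P : Type u) [AddCommGroup P] [Module A P] [Module.Finite A P],
      mem T (Module.annihilator A P) → ∀ g : Dual.inD A P ⟶ (K m)⟦i⟧, g ≫ (φ _ _ h)⟦i⟧' = 0 := by
  classical
  intro N
  induction N with
  | zero =>
    intro n m _ h i _ hi P _ _ _ _ g
    have := hK m
    have hK' : ((K m)⟦i⟧).IsGE (a - i) :=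
      DerivedCategory.TStructure.t.isGE_shift (K m) a i (a - i) (by omega)
    rw [DR.Basic.hom_eq_zero_of_isLE_of_isGE g (a := 0) (b := a - i) (by omega)
      inferInstance hK', zero_comp]
  | succ N ih =>
    intro n m hm h i hi hia P _ _ _ hP g
    rw [Function.iterate_succ_apply'] at hm
    subst hm
    let n₁ := μ^[N] n
    have h₁ : n ≤ n₁ := le_iterate hμ N n
    have h₂ : n₁ ≤ μ n₁ := hμ n₁
    rw [show h = h₁.trans h₂ from rfl, comp_shift hφ h₁ h₂ i, ← Category.assoc]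
    obtain ⟨r, π, hπ⟩ := Module.Finite.exists_fin' A P
    let J₀ := Module.annihilator A P
    let e : Fin r → ((A ⧸ J₀) →ₗ[A] P) := fun k =>
      Submodule.liftQ J₀ (LinearMap.toSpanSingleton A P (π (Pi.single k 1))) fun b hb =>
        LinearMap.mem_ker.2 (Module.mem_annihilator.1 hb _)
    choose Jf hJf hle hkill' using fun k => hkill n₁ i hi J₀ hP (mp (e k) ≫ g)
    let J' := (∏ k, Jf k) * J₀
    have hJ' : mem T J' := by
      refine mem_mul ?_ hP
      refine Finset.prod_induction Jf (mem T) (fun _ _ h h' => mem_mul h h') ?_ fun k _ => hJf k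
      rw [mem, Ideal.one_eq_top, Submodule.top_coe, PrimeSpectrum.zeroLocus_univ]
      exact Set.empty_subset _
    have hJk : ∀ k, J' ≤ Jf k := fun k => le_trans Ideal.mul_le_left
      (le_trans Ideal.prod_le_inf (Finset.inf_le (Finset.mem_univ k)))
    have hJ₀ : J' ≤ J₀ := Ideal.mul_le_right
    let e' : Fin r → ((A ⧸ J') →ₗ[A] P) := fun k =>
      e k ∘ₗ Submodule.mapQ J' J₀ LinearMap.id hJ₀
    have hzero : ∀ k, mp (e' k) ≫ g ≫ (φ _ _ h₂)⟦i⟧' = 0 := fun k => by
      have h1 : mp (e' k) = s0.map (qq (hJk k)) ≫ s0.map (qq (hle k)) ≫ mp (e k) := by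
        rw [← Functor.map_comp_assoc, ← Functor.map_comp]
        refine congrArg s0.map (ModuleCat.hom_ext (LinearMap.ext fun z => ?_))
        obtain ⟨z, rfl⟩ := Submodule.Quotient.mk_surjective _ z
        rfl
      rw [h1, Category.assoc, Category.assoc]
      refine (congrArg (fun t => s0.map (qq (hJk k)) ≫ t) ?_).trans comp_zero
      rw [← Category.assoc (mp (e k))]
      exact hkill' k
    let π' : (Fin r → A ⧸ J') →ₗ[A] P := ∑ k, e' k ∘ₗ LinearMap.proj k
    have hπ' : Function.Surjective π' := fun y => by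
      obtain ⟨v, rfl⟩ := hπ y
      refine ⟨fun k => Submodule.Quotient.mk (v k), ?_⟩
      conv_rhs => rw [pi_eq_sum_univ' v, map_sum]
      simp only [π', LinearMap.sum_apply, LinearMap.comp_apply, LinearMap.proj_apply]
      refine Finset.sum_congr rfl fun k _ => ?_
      rw [map_smul]
      rfl
    have h2 : mp π' ≫ g ≫ (φ _ _ h₂)⟦i⟧' = 0 := by
      have : mp π' = ∑ k, mp (LinearMap.proj k : (Fin r → A ⧸ J') →ₗ[A] A ⧸ J') ≫ mp (e' k) := by
        rw [mp, show ModuleCat.ofHom π' = ∑ k, ModuleCat.ofHom (e' k ∘ₗ LinearMap.proj k) from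
          ModuleCat.hom_ext (by rw [ModuleCat.hom_sum]; rfl), Functor.map_sum]
        exact Finset.sum_congr rfl fun k _ => mp_comp _ _
      rw [this, Preadditive.sum_comp]
      refine Finset.sum_eq_zero fun k _ => ?_
      rw [Category.assoc, hzero k, comp_zero]
    have hker : mem T (Module.annihilator A (LinearMap.ker π')) := by
      refine Set.Subset.trans (PrimeSpectrum.zeroLocus_anti_mono fun b hb => ?_) hJ'
      exact Module.mem_annihilator.2 fun v => Subtype.ext (funext fun k => by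
        obtain ⟨w, hw⟩ := Submodule.Quotient.mk_surjective _ (v.1 k)
        change b • v.1 k = 0
        rw [← hw, ← Submodule.Quotient.mk_smul, Submodule.Quotient.mk_eq_zero]
        exact Ideal.mul_mem_right w J' hb)
    exact comp_eq_zero_of_left (Submodule.injective_subtype (LinearMap.ker π')) hπ'
      (LinearMap.exact_subtype_ker_map π') (show (i - 1) + 1 = i by omega)
      (fun z => ih n n₁ rfl h₁ (i - 1) (by omega) (by omega) (LinearMap.ker π') hker z)
      (g ≫ (φ _ _ h₂)⟦i⟧') h2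

include hφ in
/-- Devissage on the least degree of the support. -/
theorem devissage (d : PrimeSpectrum A → ℤ) (hd : ∀ {q p : PrimeSpectrum A}, q < p → d q < d p)
    (lo hi : ℤ) (hlo : ∀ q, lo ≤ d q ∧ d q ≤ hi) (s : ℤ)
    (hloc : ∀ n, ∃ (m : ℕ) (h : n ≤ m),
      ∀ (P : Type u) [AddCommGroup P] [Module A P] [Module.Finite A P],
      mem T (Module.annihilator A P) → ∀ q ∈ Module.support A P,
      (∀ r ∈ Module.support A P, r ≤ q → r = q) → ∀ i ≤ s, ∀ g : Dual.inD A P ⟶ (K m)⟦i⟧,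
      ∃ t ∉ q.asIdeal, t • (g ≫ (φ _ _ h)⟦i⟧') = 0) (n : ℕ) :
    ∃ (m : ℕ) (h : n ≤ m), ∀ i ≤ s, ∀ (P : Type u) [AddCommGroup P] [Module A P] [Module.Finite A P],
      mem T (Module.annihilator A P) → ∀ g : Dual.inD A P ⟶ (K m)⟦i⟧, g ≫ (φ _ _ h)⟦i⟧' = 0 := by
  classical
  suffices key : ∀ (k : ℕ) (n : ℕ), ∃ (m : ℕ) (h : n ≤ m), ∀ i ≤ s,
      ∀ (P : Type u) [AddCommGroup P] [Module A P] [Module.Finite A P],
      mem T (Module.annihilator A P) → (∀ q ∈ Module.support A P, hi < d q + k) →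
      ∀ g : Dual.inD A P ⟶ (K m)⟦i⟧, g ≫ (φ _ _ h)⟦i⟧' = 0 by
    obtain ⟨m, h, hm⟩ := key (hi + 1 - lo).toNat n
    exact ⟨m, h, fun i hi' P _ _ _ hP => hm i hi' P hP fun q _ => by have := hlo q; omega⟩
  intro k
  induction k with
  | zero =>
    refine fun n => ⟨n, le_rfl, fun i _ P _ _ _ _ hsupp g => ?_⟩
    have hs : Module.support A P = ∅ := Set.eq_empty_iff_forall_notMem.2 fun q hq => by
      have h1 := hsupp q hq
      have h2 := (hlo q).2
      omega
    have : Subsingleton P := Module.support_eq_empty_iff.1 hs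
    have h0 : 𝟙 (Dual.inD A P) = 0 := by
      rw [show 𝟙 (Dual.inD A P) = mp (LinearMap.id : P →ₗ[A] P) from (s0.map_id _).symm,
        show (LinearMap.id : P →ₗ[A] P) = 0 from LinearMap.ext fun v => Subsingleton.elim _ _]
      exact s0.map_zero _ _
    rw [← Category.id_comp g, h0, zero_comp, zero_comp]
  | succ k ih =>
    intro n
    obtain ⟨n₁, h₁, hn₁⟩ := ih n
    obtain ⟨n₂, h₂, hn₂⟩ := ih n₁
    obtain ⟨m, h₃, hm⟩ := hloc n₂
    refine ⟨m, (h₁.trans h₂).trans h₃, fun i hi' P _ _ _ hP hsupp g => ?_⟩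
    let S := {q : PrimeSpectrum A | q ∈ Module.support A P ∧ d q + k ≤ hi}
    have hmin : ∀ q ∈ S, ∀ r ∈ Module.support A P, r ≤ q → r = q := fun q hq r hr hrq => by
      by_contra hne
      have h1 := hd (lt_of_le_of_ne hrq hne)
      have h2 := hsupp r hr
      have h3 := hq.2
      push_cast at h2
      omega
    have hS : S.Finite := by
      refine ((Ideal.finite_minimalPrimes_of_isNoetherianRing A (Module.annihilator A P)).preimage
        (fun p _ q _ h => PrimeSpectrum.ext h)).subset fun q hq => ?_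
      refine ⟨⟨q.isPrime, Module.annihilator_le_of_mem_support hq.1⟩, fun J hJ hJle => ?_⟩
      have : (⟨J, hJ.1⟩ : PrimeSpectrum A) ∈ Module.support A P := by
        rw [Module.support_eq_zeroLocus, PrimeSpectrum.mem_zeroLocus]
        exact hJ.2
      exact (congrArg PrimeSpectrum.asIdeal (hmin q hq _ this hJle)).ge
    let g' := g ≫ (φ _ _ h₃)⟦i⟧'
    let I : Ideal A := LinearMap.ker (LinearMap.toSpanSingleton A _ g')
    obtain ⟨t, htI, htS⟩ : ∃ t ∈ I, ∀ q ∈ S, t ∉ q.asIdeal := by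
      by_contra hc
      push Not at hc
      have hsub : (I : Set A) ⊆ ⋃ q ∈ (↑hS.toFinset : Set (PrimeSpectrum A)), (q.asIdeal : Set A) :=
        fun t ht => by
          obtain ⟨q, hq, hq'⟩ := hc t ht
          exact Set.mem_biUnion (hS.mem_toFinset.2 hq) hq'
      obtain ⟨q₀, -, -⟩ := hc 0 (zero_mem I)
      obtain ⟨q, hq, hle⟩ := (Ideal.subset_union_prime (f := PrimeSpectrum.asIdeal)
        (s := hS.toFinset) q₀ q₀ fun q _ _ _ => q.isPrime).1 hsub
      have hqS := hS.mem_toFinset.1 hq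
      obtain ⟨t, ht, ht'⟩ := hm P hP q hqS.1 (hmin q hqS) i hi' g
      exact ht (hle (LinearMap.mem_ker.2 ht'))
    have htg : t • g' = 0 := LinearMap.mem_ker.1 htI
    let F : P →ₗ[A] P := t • LinearMap.id
    have hstep : ∀ (Q : Type u) [AddCommGroup Q] [Module A Q] [Module.Finite A Q],
        Module.annihilator A P ≤ Module.annihilator A Q → (∀ v : Q, t • v = 0) →
        mem T (Module.annihilator A Q) ∧ ∀ q ∈ Module.support A Q, hi < d q + k := by
      intro Q _ _ _ hle htQ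
      refine ⟨Set.Subset.trans (PrimeSpectrum.zeroLocus_anti_mono hle) hP, fun q hq => ?_⟩
      have hqP : q ∈ Module.support A P := by
        rw [Module.support_eq_zeroLocus, PrimeSpectrum.mem_zeroLocus]
        exact hle.trans (Module.annihilator_le_of_mem_support hq)
      have htq : t ∈ q.asIdeal :=
        Module.annihilator_le_of_mem_support hq (Module.mem_annihilator.2 htQ)
      by_contra hc
      exact htS q ⟨hqP, by omega⟩ htq
    have h4 : mp F.rangeRestrict ≫ mp (LinearMap.range F).subtype ≫ g' = 0 := by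
      rw [← Category.assoc, ← mp_comp, show (LinearMap.range F).subtype ∘ₗ F.rangeRestrict = F from rfl,
        mp_smul_id, Linear.smul_comp, Category.id_comp, htg]
    have hK := hstep (LinearMap.ker F)
      (fun b hb => Module.mem_annihilator.2 fun v => Subtype.ext (Module.mem_annihilator.1 hb v.1))
      (fun v => Subtype.ext (LinearMap.mem_ker.1 v.2 : t • v.1 = 0))
    have hC := hstep (P ⧸ LinearMap.range F)
      (fun b hb => Module.mem_annihilator.2 fun v => by
        obtain ⟨w, rfl⟩ := Submodule.Quotient.mk_surjective _ v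
        rw [← Submodule.Quotient.mk_smul, Module.mem_annihilator.1 hb w, Submodule.Quotient.mk_zero])
      (fun v => by
        obtain ⟨w, rfl⟩ := Submodule.Quotient.mk_surjective _ v
        rw [← Submodule.Quotient.mk_smul, Submodule.Quotient.mk_eq_zero]
        exact ⟨w, rfl⟩)
    have h5 : (mp (LinearMap.range F).subtype ≫ g') ≫ (φ _ _ h₂)⟦i⟧' = 0 :=
      comp_eq_zero_of_left (Submodule.injective_subtype (LinearMap.ker F))
        F.surjective_rangeRestrict (fun v => by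
          constructor
          · intro hv
            exact ⟨⟨v, LinearMap.mem_ker.2 (congrArg Subtype.val hv)⟩, rfl⟩
          · rintro ⟨w, rfl⟩
            exact Subtype.ext (LinearMap.mem_ker.1 w.2))
        (show (i - 1) + 1 = i by omega)
        (fun z => hn₂ (i - 1) (by omega) (LinearMap.ker F) hK.1 hK.2 z) _ h4
    have h6 : (g' ≫ (φ _ _ h₂)⟦i⟧') ≫ (φ _ _ h₁)⟦i⟧' = 0 :=
      comp_eq_zero_of_right (Submodule.injective_subtype (LinearMap.range F))
        (Submodule.mkQ_surjective _) (LinearMap.exact_subtype_mkQ _)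
        (fun z => hn₁ i hi' _ hC.1 hC.2 z) _ ((Category.assoc _ _ _).symm.trans h5)
    rw [comp_shift hφ (h₁.trans h₂) h₃ i, comp_shift hφ h₁ h₂ i, ← Category.assoc, ← Category.assoc]
    exact h6

end Groth.Agent.Lib.ProZero.KillMap
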