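import Groth.Agent.Lib.ProZero.KillMap
import Groth.Agent.Lib.RGamma.LocalKill

/-!
# Transition maps which are null on the duals kill maps from modules supported in `T`
-/

universe u

open CategoryTheory CategoryTheory.Limits Pretriangulated TensorProduct

attribute [local instance] HasDerivedCategory.standard

namespace Groth.Agent.Lib.ProZero.Local

open Groth.Agent.Lib.RGamma Groth.Agent.Lib.RGamma.HDT Groth.Agent.Lib.DMod
  Groth.Agent.Lib.DMod.FlatHom

variable {A : Type u} [CommRing A] [IsNoetherianRing A] (q : PrimeSpectrum A)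

local notation "R" => Localization.AtPrime q.asIdeal

omit [IsNoetherianRing A] in
/-- Naturality of the comparison of translates. -/
lemma commShift_natural {X Y : Dual.D A} (f : X ⟶ Y) (i : ℤ) :
    (L A R).map (f⟦i⟧') ≫ ((L A R).commShiftIso i).hom.app Y =
      ((L A R).commShiftIso i).hom.app X ≫ ((L A R).map f)⟦i⟧' :=
  ((L A R).commShiftIso i).hom.naturality f

variable {ω : Dual.D A} (hω : Dual.IsDualizing A ω)
include hω

/-- The pairing at `q`. -/
theorem exists_proj_comp_eq_zero {X Y : Dual.D A} (α : X ⟶ Y)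
    (hXf : ∀ j, Module.Finite A (Dual.HD A X j)) (a b : ℤ)
    (hXb : ∀ j, j < a ∨ b < j → Subsingleton (Dual.HD A X j))
    (hYf : ∀ j, Module.Finite A (Dual.HD A Y j))
    (hYb : ∀ j, j < a ∨ b < j → Subsingleton (Dual.HD A Y j)) (i : ℤ)
    (h : ∀ g : Y ⟶ ω⟦Degree.deg hω q - i⟧, ∃ t ∉ q.asIdeal, t • (α ≫ g) = 0)
    (J : Ideal R) (hJ : mem {IsLocalRing.closedPoint R} J)
    (g : qD J ⟶ ((L A R).obj X)⟦i⟧) :
    ∃ (J' : Ideal R) (_ : mem {IsLocalRing.closedPoint R} J') (hle : J' ≤ J),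
      KillHom.s0.map (qq hle) ≫ g ≫ ((L A R).map α)⟦i⟧' = 0 := by
  obtain ⟨E, _, _, f, hf⟩ : ∃ (E : Type u) (_ : AddCommGroup E) (_ : Module R E)
      (f : IsLocalRing.ResidueField R →ₗ[R] E), InjHull.IsInjectiveHull f :=
    InjHull.Basic.exists_hull _
  let ωR := ((L A R).obj ω)⟦Degree.deg hω q⟧
  have hωR : Dual.IsDualizing R ωR :=
    Gorenstein.isDualizing_shift (LocalKill.isDualizing_local q hω) (Degree.deg hω q)
  have hn : Dual.IsNormalized R ωR := LocalKill.isNormalized_local q hω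
  obtain ⟨t⟩ := Sys.exists_trace hωR hn hf
  obtain ⟨hYf', a', b', hYb'⟩ := FlatDualizing.bddFin_L (B := R) (K := Y) ⟨hYf, a, b, hYb⟩
  obtain ⟨c, hc⟩ := FlatDualizing.exists_isGE (FlatDualizing.bddFin_of_dualizing hω)
  obtain ⟨hinj, -⟩ := Pairing.good_of_bounded t hωR hn hf ((L A R).obj Y) hYf' a' b' hYb' i
  let Z := ω⟦Degree.deg hω q - i⟧
  have hzero : ∀ l : ((L A R).obj Y)⟦i⟧ ⟶ ωR, ((L A R).map α)⟦i⟧' ≫ l = 0 := by
    intro l
    let η := (shiftFunctorCompIsoId (Dual.D R) (-i) i (by omega)).app ωR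
    obtain ⟨l₀, hl₀⟩ := (shiftFunctor (Dual.D R) i).map_surjective (l ≫ η.inv)
    have hl : l = l₀⟦i⟧' ≫ η.hom := by
      rw [hl₀]
      exact ((Category.assoc _ _ _).trans
        ((congrArg _ η.inv_hom_id).trans (Category.comp_id _))).symm
    let e : ωR⟦-i⟧ ≅ (L A R).obj Z :=
      ((shiftFunctorAdd' (Dual.D R) (Degree.deg hω q) (-i) (Degree.deg hω q - i) (by omega)).app
        ((L A R).obj ω)).symm ≪≫ (((L A R).commShiftIso (Degree.deg hω q - i)).app ω).symm
    obtain ⟨z, hz⟩ := (bij_of_bounded (B := R) hYb hYf (FlatHom.isGE_shift_neg hc _)).2 (l₀ ≫ e.hom)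
    have h0 : (L A R).map α ≫ l₀ ≫ e.hom = 0 := by
      rw [← hz]
      refine (LinearMap.congr_fun (Φ_leftComp Z α) z).trans ?_
      suffices hz0 : (Linear.leftComp A Z α).baseChange R z = 0 by
        rw [LinearMap.comp_apply, hz0, map_zero]
      clear hz
      induction z using TensorProduct.induction_on with
      | zero => exact map_zero _
      | tmul r g =>
        rw [LinearMap.baseChange_tmul, ← mul_one r, ← smul_eq_mul, ← TensorProduct.smul_tmul',
          show ((1 : R) ⊗ₜ[A] (Linear.leftComp A Z α) g : R ⊗[A] (X ⟶ Z)) = 0 from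
            (LocalKill.tmul_eq_zero_iff q _).2 (h g), smul_zero]
      | add x y hx hy => rw [map_add, hx, hy, add_zero]
    have h1 : (L A R).map α ≫ l₀ = 0 :=
      (cancel_mono e.hom).1 ((Category.assoc _ _ _).trans (h0.trans zero_comp.symm))
    rw [hl, ← Category.assoc, ← Functor.map_comp, h1, Functor.map_zero, zero_comp]
  obtain ⟨n, hn'⟩ := Ideal.exists_pow_le_of_le_radical_of_fg_radical
    (I := IsLocalRing.maximalIdeal R) (J := J) (by
      rw [Ideal.radical_eq_sInf]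
      refine le_sInf fun P ⟨hP, hPp⟩ => ?_
      exact (congrArg PrimeSpectrum.asIdeal
        (Set.mem_singleton_iff.1 (hJ (show (⟨P, hPp⟩ : PrimeSpectrum R) ∈ _ from hP)))).ge)
    (IsNoetherian.noetherian _)
  let g₁ : Sys.QD R n ⟶ ((L A R).obj Y)⟦i⟧ :=
    KillHom.s0.map (qq hn') ≫ g ≫ ((L A R).map α)⟦i⟧'
  obtain ⟨N, hN, hN0⟩ := hinj n g₁ fun l => by
    rw [show g₁ ≫ l = 0 from (Category.assoc _ _ _).trans ((congrArg _ ((Category.assoc _ _ _).trans
      ((congrArg _ (hzero l)).trans comp_zero))).trans comp_zero), map_zero]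
  refine ⟨IsLocalRing.maximalIdeal R ^ N, fun P hP => ?_,
    (Ideal.pow_le_pow_right hN).trans hn', ?_⟩
  · rcases Nat.eq_zero_or_pos N with h0 | h0
    · rw [h0, pow_zero, Ideal.one_eq_top, Submodule.top_coe, PrimeSpectrum.zeroLocus_univ] at hP
      exact hP.elim
    · exact PrimeSpectrum.ext (le_antisymm (IsLocalRing.le_maximalIdeal P.isPrime.ne_top)
        ((P.isPrime.pow_le_iff h0.ne').1 hP))
  · refine Eq.trans ?_ hN0
    simp only [g₁]
    show _ = Sys.proj hN ≫ _
    rw [← Category.assoc (Sys.proj hN)]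
    refine congrArg (· ≫ g ≫ ((L A R).map α)⟦i⟧') ?_
    show _ = KillHom.s0.map _ ≫ KillHom.s0.map _
    rw [← Functor.map_comp]
    refine congrArg KillHom.s0.map (ModuleCat.hom_ext (LinearMap.ext fun v => ?_))
    obtain ⟨v, rfl⟩ := Submodule.Quotient.mk_surjective _ v
    rfl

omit hω in
/-- Vanishing after localization. -/
theorem exists_smul_comp_eq_zero {X Y : Dual.D A} (α : X ⟶ Y) {c : ℤ} (hY : Y.IsGE c)
    (hX : X.IsGE c) (P : Type u) [AddCommGroup P] [Module A P] [Module.Finite A P] (i : ℤ)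
    (h : ∀ z : Dual.inD R (R ⊗[A] P) ⟶ ((L A R).obj X)⟦i⟧, z ≫ ((L A R).map α)⟦i⟧' = 0)
    (g : Dual.inD A P ⟶ X⟦i⟧) : ∃ t ∉ q.asIdeal, t • (g ≫ α⟦i⟧') = 0 := by
  have hinj : Function.Injective (Φ R (Dual.inD A P) (Y⟦i⟧)) :=
    (bij_inD P (FlatHom.isGE_shift_neg hY i)).1
  refine (LocalKill.tmul_eq_zero_iff q _).1 (hinj ?_)
  rw [map_zero, Φ_tmul, one_smul, Functor.map_comp]
  apply (cancel_mono (((L A R).commShiftIso i).hom.app Y)).1
  apply (cancel_epi DR.FlatBC.mapInD.inv).1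
  rw [zero_comp, comp_zero]
  have h1 := h (DR.FlatBC.mapInD.inv ≫ (L A R).map g ≫ ((L A R).commShiftIso i).hom.app X)
  refine Eq.trans ?_ h1
  rw [Category.assoc ((L A R).map g), commShift_natural q α i]
  simp only [Category.assoc]

omit q

variable {T : Set (PrimeSpectrum A)}

/-- The criterion. -/
theorem kill_of_dual (K : ℕ → Dual.D A) (φ : ∀ n m : ℕ, n ≤ m → (K m ⟶ K n))
    (hφ : KillMap.Compat K φ) (hKf : ∀ n j, Module.Finite A (Dual.HD A (K n) j)) (a b : ℤ)
    (hKb : ∀ n j, j < a ∨ b < j → Subsingleton (Dual.HD A (K n) j)) (s : ℤ)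
    (hdual : ∀ n, ∃ (m : ℕ) (h : n ≤ m), ∀ q ∈ T, ∀ i ≤ s,
      ∀ g : K n ⟶ ω⟦Degree.deg hω q - i⟧, ∃ t ∉ q.asIdeal, t • (φ n m h ≫ g) = 0) (n : ℕ) :
    ∃ (m : ℕ) (h : n ≤ m), ∀ i ≤ s, ∀ (P : Type u) [AddCommGroup P] [Module A P] [Module.Finite A P],
      mem T (Module.annihilator A P) → ∀ g : Dual.inD A P ⟶ (K m)⟦i⟧, g ≫ (φ n m h)⟦i⟧' = 0 := by
  obtain ⟨lo, hi, hlo⟩ := Degree.exists_le_deg hω
  have hGE : ∀ n, (K n).IsGE a := fun n =>
    (Basic.isGE_iff (K n) a).2 fun j hj => hKb n j (Or.inl hj)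
  choose μ hμ hμ' using hdual
  let N := (s + 1 - a).toNat
  refine KillMap.devissage hφ (fun q => Degree.deg hω q) (Degree.deg_lt hω) lo hi hlo s
    (fun n => ⟨μ^[N] n, KillMap.le_iterate hμ N n, fun P _ _ _ hP q hqP hmin i hi' g => ?_⟩) n
  have hqT : q ∈ T := hP (Module.annihilator_le_of_mem_support hqP)
  refine exists_smul_comp_eq_zero q _ (hGE n) (hGE _) P i (fun z => ?_) g
  let B := Localization.AtPrime q.asIdeal
  refine KillMap.kill_hom (A := B) (K := fun n => (L A B).obj (K n))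
    (φ := fun n m h => (L A B).map (φ n m h)) (fun h h' => (congrArg (L A B).map (hφ h h')).trans ((L A B).map_comp _ _))
    (fun n => DR.ExactPush.isGE_map _ (hGE n)) (T := {IsLocalRing.closedPoint B}) (s := s)
    (μ := μ) (hμ := hμ) (fun n i hi'' J hJ g => exists_proj_comp_eq_zero q hω (φ n (μ n) (hμ n))
      (hKf _) a b (hKb _) (hKf _) (hKb _) i (hμ' n q hqT i hi'') J hJ g)
    N n (μ^[N] n) rfl _ i hi' (by omega) (B ⊗[A] P) ?_ z
  intro r hr
  have hr' : PrimeSpectrum.comap (algebraMap A B) r ∈ Module.support A P := by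
    rw [Module.support_eq_zeroLocus, PrimeSpectrum.mem_zeroLocus]
    intro v hv
    refine hr (Module.mem_annihilator.2 fun z => ?_)
    induction z using TensorProduct.induction_on with
    | zero => exact smul_zero _
    | tmul c m =>
      rw [algebraMap_smul, ← TensorProduct.tmul_smul, Module.mem_annihilator.1 hv m,
        TensorProduct.tmul_zero]
    | add c d hc hd => rw [smul_add, hc, hd, add_zero]
  have h1 := hmin _ hr' (by
    intro v hv
    by_contra hv'
    exact r.isPrime.ne_top (Ideal.eq_top_of_isUnit_mem _ hv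
      (IsLocalization.map_units B (⟨v, hv'⟩ : q.asIdeal.primeCompl))))
  refine PrimeSpectrum.ext (le_antisymm (IsLocalRing.le_maximalIdeal r.isPrime.ne_top) ?_)
  show IsLocalRing.maximalIdeal _ ≤ _
  rw [← IsLocalization.AtPrime.map_eq_maximalIdeal q.asIdeal B, Ideal.map_le_iff_le_comap]
  exact (congrArg PrimeSpectrum.asIdeal h1).ge

end Groth.Agent.Lib.ProZero.Local
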