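import Groth.Agent.Lib.ProZero.Pointwise

/-!
# Injectivity of images in `H^i_T` from injectivity at the points of `T`
-/

universe u

open CategoryTheory CategoryTheory.Limits TensorProduct Opposite

attribute [local instance] HasDerivedCategory.standard

namespace Groth.Agent.Lib.ProZero.PointInj

open Groth.Agent.Lib.RGamma Groth.Agent.Lib.RGamma.HDT Groth.Agent.Lib.DMod.FlatHom
  Groth.Agent.Lib.LocalCoh Groth.Agent.Lib.DR Groth.Agent.Lib.ProZero.Pointwise

variable {A : Type u} [CommRing A] [IsNoetherianRing A]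

section Local

variable (q : PrimeSpectrum A)

local notation "R" => Localization.AtPrime q.asIdeal

/-- `H^i` of the localized module at the closed point. -/
noncomputable abbrev lcq (i : ℕ) (M : Type u) [AddCommGroup M] [Module A M] : ModuleCat.{u} R :=
  (colimExt (quotSys (IsLocalRing.maximalIdeal R)) i).obj ((E A R).obj (ModuleCat.of A M))

/-- The map induced by a linear map. -/
noncomputable abbrev lcqMap (i : ℕ) {M N : Type u} [AddCommGroup M] [Module A M] [AddCommGroup N]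
    [Module A N] (f : M →ₗ[A] N) : lcq q i M →ₗ[R] lcq q i N :=
  ((colimExt (quotSys (IsLocalRing.maximalIdeal R)) i).map ((E A R).map (ModuleCat.ofHom f))).hom

/-- Local cohomology of the localized module. -/
noncomputable abbrev locMap (i : ℕ) {M N : Type u} [AddCommGroup M] [Module A M] [AddCommGroup N]
    [Module A N] (f : M →ₗ[A] N) :=
  ((localCohomology (IsLocalRing.maximalIdeal R) i).map
    (ModuleCat.ofHom (LocalizedModule.map q.asIdeal.primeCompl f))).hom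

/-- The comparison between the two forms of localization. -/
noncomputable def transfer (i : ℕ) (M : Type u) [AddCommGroup M] [Module A M] :
    ((localCohomology (IsLocalRing.maximalIdeal R) i).obj
      (ModuleCat.of R (LocalizedModule q.asIdeal.primeCompl M))) ≅ lcq q i M :=
  (localCohomology (IsLocalRing.maximalIdeal R) i).mapIso
    ((FlatBC.extEquiv A R M).toModuleIso ≪≫
      (LocalizedModule.equivTensorProduct q.asIdeal.primeCompl M).symm.toModuleIso).symm ≪≫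
    (lcIso (IsLocalRing.maximalIdeal R) i).app _

omit [IsNoetherianRing A] in
lemma transfer_natural (i : ℕ) {M N : Type u} [AddCommGroup M] [Module A M] [AddCommGroup N]
    [Module A N] (f : M →ₗ[A] N)
    (x : ((localCohomology (IsLocalRing.maximalIdeal R) i).obj
      (ModuleCat.of R (LocalizedModule q.asIdeal.primeCompl M)))) :
    lcqMap q i f ((transfer q i M).hom.hom x) = (transfer q i N).hom.hom (locMap q i f x) := by
  let S := q.asIdeal.primeCompl
  have hsq : ModuleCat.ofHom (f.baseChange R) ≫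
      (LocalizedModule.equivTensorProduct S N).symm.toModuleIso.hom =
      (LocalizedModule.equivTensorProduct S M).symm.toModuleIso.hom ≫
        ModuleCat.ofHom (LocalizedModule.map S f) := by
    ext1
    refine LinearMap.ext fun z => ?_
    induction z using TensorProduct.induction_on with
    | zero => simp only [map_zero]
    | tmul r m =>
      induction r using Localization.induction_on with
      | H w => obtain ⟨a, s⟩ := w; simp [LocalizedModule.map_mk, S]
    | add a b ha hb => simp only [map_add, ha, hb]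
  let IM := (FlatBC.extEquiv A R M).toModuleIso ≪≫
    (LocalizedModule.equivTensorProduct S M).symm.toModuleIso
  let IN := (FlatBC.extEquiv A R N).toModuleIso ≪≫
    (LocalizedModule.equivTensorProduct S N).symm.toModuleIso
  have hIN : IM.inv ≫ (E A R).map (ModuleCat.ofHom f) =
      ModuleCat.ofHom (LocalizedModule.map S f) ≫ IN.inv := by
    rw [Iso.inv_comp_eq, ← Category.assoc, Iso.eq_comp_inv]
    simp only [IM, IN, Iso.trans_hom, Category.assoc]
    rw [← hsq, ← Category.assoc, ← Category.assoc]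
    exact congrArg (· ≫ (LocalizedModule.equivTensorProduct S N).symm.toModuleIso.hom)
      (extEquiv_natural q f)
  have h : (transfer q i M).hom ≫ (colimExt (quotSys (IsLocalRing.maximalIdeal R)) i).map
      ((E A R).map (ModuleCat.ofHom f)) =
      (localCohomology (IsLocalRing.maximalIdeal R) i).map
        (ModuleCat.ofHom (LocalizedModule.map S f)) ≫ (transfer q i N).hom := by
    simp only [transfer, Iso.trans_hom, Functor.mapIso_hom, Iso.symm_hom, Iso.app_hom,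
      Category.assoc]
    rw [← (lcIso (IsLocalRing.maximalIdeal R) i).hom.naturality, ← Category.assoc,
      ← Functor.map_comp, ← Category.assoc ((localCohomology _ i).map _), ← Functor.map_comp]
    exact congrArg (fun g => (localCohomology (IsLocalRing.maximalIdeal R) i).map g ≫
      (lcIso (IsLocalRing.maximalIdeal R) i).hom.app _) hIN
  exact ConcreteCategory.congr_hom h x

omit [IsNoetherianRing A] in
lemma lcqMap_eq_zero {i : ℕ} {M N : Type u} [AddCommGroup M] [Module A M] [AddCommGroup N]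
    [Module A N] (f : M →ₗ[A] N)
    (hf : (localCohomology (IsLocalRing.maximalIdeal R) i).map
      (ModuleCat.ofHom (LocalizedModule.map q.asIdeal.primeCompl f)) = 0) (x : lcq q i M) :
    lcqMap q i f x = 0 := by
  obtain ⟨y, rfl⟩ : ∃ y, (transfer q i M).hom.hom y = x :=
    ⟨(transfer q i M).inv.hom x, Iso.inv_hom_id_apply _ _⟩
  rw [transfer_natural]
  show (transfer q i N).hom.hom (((localCohomology (IsLocalRing.maximalIdeal R) i).map _).hom y) = 0
  rw [hf]
  exact map_zero _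

/-- The generator of the localized cyclic module. -/
noncomputable def gen' (J : Ideal A) : (E A R).obj (ModuleCat.of A (A ⧸ J)) :=
  (FlatBC.extEquiv A R (A ⧸ J)).symm ((1 : R) ⊗ₜ[A] Ideal.Quotient.mk J 1)

omit [IsNoetherianRing A] in
lemma map_gen' {J' J : Ideal A} (h : J' ≤ J) :
    ((E A R).map (qq h)).hom (gen' q J') = gen' q J := rfl

omit [IsNoetherianRing A] in
lemma ext_gen {k : ℕᵒᵖᵒᵖ} {X : ModuleCat.{u} R}
    {f g : ((quotSys (IsLocalRing.maximalIdeal R)).obj k).unop ⟶ X}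
    (h : f.hom (gen _ k) = g.hom (gen _ k)) : f = g := by
  refine ModuleCat.hom_ext (LinearMap.ext fun x => ?_)
  obtain ⟨r, rfl⟩ := span_gen _ k x
  rw [map_smul, map_smul, h]

/-- `γ` maps the generator to the generator. -/
def IsGamma (J : Ideal A) (k : ℕᵒᵖᵒᵖ)
    (γ : ((quotSys (IsLocalRing.maximalIdeal R)).obj k).unop ⟶
      (E A R).obj (ModuleCat.of A (A ⧸ J))) : Prop :=
  γ.hom (gen _ k) = gen' q J

theorem exists_gamma (J : Ideal A) (hq : q.asIdeal ∈ J.minimalPrimes) :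
    ∃ (k : ℕᵒᵖᵒᵖ) (γ : _), IsGamma q J k γ := by
  obtain ⟨n₀, hn₀⟩ : ∃ n₀, IsLocalRing.maximalIdeal R ^ n₀ ≤ J.map (algebraMap A R) := by
    refine Ideal.exists_pow_le_of_le_radical_of_fg_radical ?_ (IsNoetherian.noetherian _)
    rw [Ideal.radical_eq_sInf]
    refine le_sInf fun P ⟨hP, hPp⟩ => ?_
    rw [← IsLocalization.AtPrime.map_eq_maximalIdeal q.asIdeal R, Ideal.map_le_iff_le_comap]
    exact hq.2 ⟨hPp.comap _, Ideal.map_le_iff_le_comap.1 hP⟩ fun v hv => by
      by_contra hv'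
      exact hPp.ne_top (Ideal.eq_top_of_isUnit_mem _ hv
        (IsLocalization.map_units R (⟨v, hv'⟩ : q.asIdeal.primeCompl)))
  let e := (FlatBC.extEquiv A R (A ⧸ J))
  let c : R ⊗[A] (A ⧸ J) := (1 : R) ⊗ₜ[A] Ideal.Quotient.mk J 1
  have hc : IsLocalRing.maximalIdeal R ^ n₀ ≤
      LinearMap.ker (LinearMap.toSpanSingleton R _ c) := by
    refine hn₀.trans (Ideal.map_le_iff_le_comap.2 fun a ha => ?_)
    rw [Ideal.mem_comap, LinearMap.mem_ker, LinearMap.toSpanSingleton_apply, algebraMap_smul,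
      ← TensorProduct.tmul_smul, Algebra.smul_def, map_one, mul_one, Ideal.Quotient.algebraMap_eq,
      Ideal.Quotient.eq_zero_iff_mem.2 ha, TensorProduct.tmul_zero]
  let γ₁ : ((quotSys (IsLocalRing.maximalIdeal R)).obj (op (op n₀))).unop ⟶
      ModuleCat.of R (R ⊗[A] (A ⧸ J)) :=
    ModuleCat.ofHom (Submodule.liftQ (IsLocalRing.maximalIdeal R ^ n₀)
      (LinearMap.toSpanSingleton R _ c) hc)
  exact ⟨op (op n₀), γ₁ ≫ e.toModuleIso.inv, congrArg e.symm (one_smul R c)⟩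

variable {M : Type u} [AddCommGroup M] [Module A M] {i : ℕ}

/-- The class at `q`. -/
noncomputable def cls {J : Ideal A} (hq : q.asIdeal ∈ J.minimalPrimes)
    (ξ : Abelian.Ext.{u} (ModuleCat.of A (A ⧸ J)) (ModuleCat.of A M) i) : lcq q i M :=
  (colimExt.ι (quotSys (IsLocalRing.maximalIdeal R)) i (exists_gamma q J hq).choose _).hom
    ((Abelian.Ext.mk₀ (exists_gamma q J hq).choose_spec.choose).comp
      (ξ.mapExactFunctor (E A R)) (zero_add i))

lemma cls_eq {J : Ideal A} (hq : q.asIdeal ∈ J.minimalPrimes)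
    (ξ : Abelian.Ext.{u} (ModuleCat.of A (A ⧸ J)) (ModuleCat.of A M) i) {k : ℕᵒᵖᵒᵖ}
    {γ : _} (hγ : IsGamma q J k γ) :
    cls q hq ξ = (colimExt.ι (quotSys (IsLocalRing.maximalIdeal R)) i k _).hom
      ((Abelian.Ext.mk₀ γ).comp (ξ.mapExactFunctor (E A R)) (zero_add i)) := by
  have h₀ := (exists_gamma q J hq).choose_spec.choose_spec
  set k₀ := (exists_gamma q J hq).choose
  set γ₀ := (exists_gamma q J hq).choose_spec.choose
  let a : k ⟶ IsFiltered.max k k₀ := IsFiltered.leftToMax k k₀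
  let a₀ : k₀ ⟶ IsFiltered.max k k₀ := IsFiltered.rightToMax k k₀
  have hγγ : ((quotSys (IsLocalRing.maximalIdeal R)).map a).unop ≫ γ =
      ((quotSys (IsLocalRing.maximalIdeal R)).map a₀).unop ≫ γ₀ := by
    apply ext_gen
    rw [ModuleCat.comp_apply, ModuleCat.comp_apply, map_gen, map_gen]
    exact hγ.trans h₀.symm
  show (colimExt.ι (quotSys (IsLocalRing.maximalIdeal R)) i k₀ _).hom _ = _
  refine ((colimExt.w_apply (quotSys (IsLocalRing.maximalIdeal R)) i a₀ _ _).symm.trans ?_).trans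
    (colimExt.w_apply (quotSys (IsLocalRing.maximalIdeal R)) i a _ _)
  refine congrArg (colimExt.ι (quotSys (IsLocalRing.maximalIdeal R)) i _ _).hom ?_
  rw [← Abelian.Ext.comp_assoc_of_second_deg_zero, ← Abelian.Ext.comp_assoc_of_second_deg_zero,
    Abelian.Ext.mk₀_comp_mk₀, Abelian.Ext.mk₀_comp_mk₀, hγγ]

lemma cls_comp {J : Ideal A} (hq : q.asIdeal ∈ J.minimalPrimes)
    (ξ : Abelian.Ext.{u} (ModuleCat.of A (A ⧸ J)) (ModuleCat.of A M) i)
    {N : Type u} [AddCommGroup N] [Module A N] (f : M →ₗ[A] N) :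
    cls q hq (ξ.comp (Abelian.Ext.mk₀ (ModuleCat.ofHom f)) (add_zero i)) =
      lcqMap q i f (cls q hq ξ) := by
  obtain ⟨k, γ, hγ⟩ := exists_gamma q J hq
  rw [cls_eq q hq _ hγ, cls_eq q hq ξ hγ]
  refine Eq.trans ?_ (colimExt.map_ι_apply _ i k ((E A R).map (ModuleCat.ofHom f)) _).symm
  rw [Abelian.Ext.mapExactFunctor_comp, Abelian.Ext.mapExactFunctor_mk₀,
    Abelian.Ext.comp_assoc_of_third_deg_zero]

lemma cls_refine {J' J : Ideal A} (h : J' ≤ J) (hq : q.asIdeal ∈ J.minimalPrimes)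
    (hq' : q.asIdeal ∈ J'.minimalPrimes)
    (ξ : Abelian.Ext.{u} (ModuleCat.of A (A ⧸ J)) (ModuleCat.of A M) i) :
    cls q hq' ((Abelian.Ext.mk₀ (qq h)).comp ξ (zero_add i)) = cls q hq ξ := by
  obtain ⟨k, γ, hγ⟩ := exists_gamma q J' hq'
  have hγ' : IsGamma q J k (γ ≫ (E A R).map (qq h)) :=
    (congrArg ((E A R).map (qq h)).hom hγ).trans (map_gen' q h)
  rw [cls_eq q hq' _ hγ, cls_eq q hq ξ hγ', Abelian.Ext.mapExactFunctor_comp,
    Abelian.Ext.mapExactFunctor_mk₀, ← Abelian.Ext.comp_assoc_of_second_deg_zero,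
    Abelian.Ext.mk₀_comp_mk₀]

lemma cls_zero {J : Ideal A} (hq : q.asIdeal ∈ J.minimalPrimes) :
    cls q hq (0 : Abelian.Ext.{u} (ModuleCat.of A (A ⧸ J)) (ModuleCat.of A M) i) = 0 := by
  rw [cls, Abelian.Ext.mapExactFunctor_zero, Abelian.Ext.comp_zero]
  exact map_zero _

/-- A class which is zero at `q` is killed by an element off `q` after refinement. -/
theorem exists_kill {J : Ideal A} (hq : q.asIdeal ∈ J.minimalPrimes)
    (ξ : Abelian.Ext.{u} (ModuleCat.of A (A ⧸ J)) (ModuleCat.of A M) i)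
    (h0 : cls q hq ξ = 0) :
    ∃ n : ℕ, ∀ (J' : Ideal A) (hJ' : J' ≤ J),
      J' ≤ (IsLocalRing.maximalIdeal R ^ n).comap (algebraMap A R) →
      ∃ t ∉ q.asIdeal, t • ((Abelian.Ext.mk₀ (qq hJ')).comp ξ (zero_add i)) = 0 := by
  obtain ⟨k₀, γ, hγ⟩ := exists_gamma q J hq
  rw [cls_eq q hq ξ hγ] at h0
  obtain ⟨k, a, hk⟩ := (colimExt.ι_eq_zero_iff _ _ _ _ _).1 h0
  refine ⟨k.unop.unop, fun J' hJ' hm => exists_smul_eq_zero q _ ?_⟩
  let ψ₁ : A ⧸ J' →ₗ[A] R ⧸ IsLocalRing.maximalIdeal R ^ k.unop.unop :=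
    Submodule.liftQ J'
      (((Submodule.mkQ (IsLocalRing.maximalIdeal R ^ k.unop.unop)).restrictScalars A) ∘ₗ
        Algebra.linearMap A R) fun v hv =>
      LinearMap.mem_ker.2 ((Submodule.Quotient.mk_eq_zero _).2 (hm hv))
  let ψ : (E A R).obj (ModuleCat.of A (A ⧸ J')) ⟶
      ((quotSys (IsLocalRing.maximalIdeal R)).obj k).unop :=
    (FlatBC.extEquiv A R (A ⧸ J')).toModuleIso.hom ≫
      (ModuleCat.ofHom (LinearMap.liftBaseChange R ψ₁) :
        ModuleCat.of R (R ⊗[A] (A ⧸ J')) ⟶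
          ModuleCat.of R (R ⧸ IsLocalRing.maximalIdeal R ^ k.unop.unop))
  have hψ : (E A R).map (qq hJ') =
      ψ ≫ ((quotSys (IsLocalRing.maximalIdeal R)).map a).unop ≫ γ := by
    refine ModuleCat.ExtendScalars.hom_ext fun m => ?_
    obtain ⟨b, rfl⟩ := Submodule.Quotient.mk_surjective _ m
    have h1 : ψ.hom ((FlatBC.extEquiv A R (A ⧸ J')).symm
        ((1 : R) ⊗ₜ[A] Submodule.Quotient.mk b)) = algebraMap A R b • gen _ k := by
      simp only [ψ, ModuleCat.comp_apply]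
      erw [LinearEquiv.apply_symm_apply, LinearMap.liftBaseChange_tmul, one_smul]
      show Submodule.Quotient.mk (algebraMap A R b) = algebraMap A R b • Submodule.Quotient.mk (1 : R)
      exact congrArg Submodule.Quotient.mk (mul_one (algebraMap A R b)).symm
    show ((E A R).map (qq hJ')).hom ((FlatBC.extEquiv A R (A ⧸ J')).symm
        ((1 : R) ⊗ₜ[A] Submodule.Quotient.mk b)) =
      γ.hom (((quotSys (IsLocalRing.maximalIdeal R)).map a).unop.hom (ψ.hom
        ((FlatBC.extEquiv A R (A ⧸ J')).symm ((1 : R) ⊗ₜ[A] Submodule.Quotient.mk b))))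
    rw [h1, map_smul, map_gen, map_smul, hγ, gen', ← map_smul, algebraMap_smul,
      ← TensorProduct.tmul_smul, Algebra.smul_def, map_one, mul_one]
    rfl
  rw [Abelian.Ext.mapExactFunctor_comp, Abelian.Ext.mapExactFunctor_mk₀, hψ]
  clear_value ψ
  rw [← Abelian.Ext.mk₀_comp_mk₀ ψ,
    ← Abelian.Ext.mk₀_comp_mk₀ ((quotSys (IsLocalRing.maximalIdeal R)).map a).unop γ,
    Abelian.Ext.comp_assoc_of_second_deg_zero, Abelian.Ext.comp_assoc_of_second_deg_zero, hk,
    Abelian.Ext.comp_zero]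

end Local

section Global

variable {T : Set (PrimeSpectrum A)}

/-- The non-minimal points. -/
def nonMin (T : Set (PrimeSpectrum A)) : Set (PrimeSpectrum A) := {p | p ∈ T ∧ ∃ r ∈ T, r < p}

omit [IsNoetherianRing A] in
lemma nonMin_stable (hT : StableUnderSpecialization T) : StableUnderSpecialization (nonMin T) :=
  fun _ _ hs ⟨hp, r, hr, hrp⟩ =>
    ⟨hT hs hp, r, hr, hrp.trans_le ((PrimeSpectrum.le_iff_specializes _ _).2 hs)⟩

omit [IsNoetherianRing A] in
lemma eq_of_le_of_not_mem {p : PrimeSpectrum A} (hpT : p ∈ T) (hp : p ∉ nonMin T) :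
    ∀ r ∈ T, r ≤ p → r = p := fun r hr hrp =>
  (hrp.lt_or_eq).resolve_left fun hlt => hp ⟨hpT, r, hr, hlt⟩

omit [IsNoetherianRing A] in
lemma not_mem_nonMin {p : PrimeSpectrum A} (hp : ∀ r ∈ T, r ≤ p → r = p) : p ∉ nonMin T :=
  fun ⟨_, r, hr, hlt⟩ => hlt.ne (hp r hr hlt.le)

/-- The minimal points of `T` in `V(J)`. -/
def pts (T : Set (PrimeSpectrum A)) (J : Ideal A) : Set (PrimeSpectrum A) :=
  {p | p ∈ PrimeSpectrum.zeroLocus (J : Set A) ∧ ∀ r ∈ T, r ≤ p → r = p}

omit [IsNoetherianRing A] in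
lemma pts_min {J : Ideal A} (hJ : mem T J) {p : PrimeSpectrum A} (hp : p ∈ pts T J) :
    p.asIdeal ∈ J.minimalPrimes :=
  ⟨⟨p.isPrime, hp.1⟩, fun P hP hle => (congrArg PrimeSpectrum.asIdeal
    (hp.2 ⟨P, hP.1⟩ (hJ hP.2) hle)).ge⟩

lemma pts_finite {J : Ideal A} (hJ : mem T J) : (pts T J).Finite :=
  ((Ideal.finite_minimalPrimes_of_isNoetherianRing A J).preimage
      (fun p _ q _ h => PrimeSpectrum.ext h)).subset fun _ hp => pts_min hJ hp

/-- Prime avoidance on the minimal points. -/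
lemma exists_avoid {J : Ideal A} (hJ : mem T J) (I : Ideal A)
    (hI : ∀ p ∈ pts T J, ¬ I ≤ p.asIdeal) : ∃ t ∈ I, ∀ p ∈ pts T J, t ∉ p.asIdeal := by
  classical
  rcases (pts T J).eq_empty_or_nonempty with hS0 | ⟨p₀, hp₀⟩
  · exact ⟨0, zero_mem I, fun p hp => absurd (hS0 ▸ hp) (Set.notMem_empty p)⟩
  by_contra hc
  push Not at hc
  have hS := pts_finite hJ
  have hsub : (I : Set A) ⊆ ⋃ p ∈ (↑hS.toFinset : Set (PrimeSpectrum A)), (p.asIdeal : Set A) :=
    fun t ht => by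
      obtain ⟨p, hp, hp'⟩ := hc t ht
      exact Set.mem_biUnion (hS.mem_toFinset.2 hp) hp'
  obtain ⟨p, hp, hle⟩ := (Ideal.subset_union_prime (f := PrimeSpectrum.asIdeal)
    (s := hS.toFinset) p₀ p₀ fun p _ _ _ => p.isPrime).1 hsub
  exact hI p (hS.mem_toFinset.1 hp) hle

omit [IsNoetherianRing A] in
lemma dies_pullback {J J₁ : Ideal A} (h : J₁ ≤ J) (hJ₁ : mem T J₁) {M : ModuleCat.{u} A} {i : ℕ}
    {x : Abelian.Ext.{u} (ModuleCat.of A (A ⧸ J)) M i} (hx : Dies T x) :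
    Dies T ((Abelian.Ext.mk₀ (qq h)).comp x (zero_add i)) := by
  obtain ⟨J', hJ', h', e⟩ := hx
  refine ⟨J' * J₁, mem_mul hJ' hJ₁, Ideal.mul_le_right, ?_⟩
  rw [← Abelian.Ext.comp_assoc_of_second_deg_zero, Abelian.Ext.mk₀_comp_mk₀, qq_comp,
    ← qq_comp (J₁ := J' * J₁) Ideal.mul_le_left h', ← Abelian.Ext.mk₀_comp_mk₀,
    Abelian.Ext.comp_assoc_of_second_deg_zero, e, Abelian.Ext.comp_zero]

omit [IsNoetherianRing A] in
lemma dies_of_pullback {J J₁ : Ideal A} (h : J₁ ≤ J) {M : ModuleCat.{u} A} {i : ℕ}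
    {x : Abelian.Ext.{u} (ModuleCat.of A (A ⧸ J)) M i}
    (hx : Dies T ((Abelian.Ext.mk₀ (qq h)).comp x (zero_add i))) : Dies T x := by
  obtain ⟨J', hJ', h', e⟩ := hx
  refine ⟨J', hJ', h'.trans h, ?_⟩
  rw [← qq_comp h' h, ← Abelian.Ext.mk₀_comp_mk₀, Abelian.Ext.comp_assoc_of_second_deg_zero, e]

omit [IsNoetherianRing A] in
lemma dies_map {J : Ideal A} {M N : ModuleCat.{u} A} (g : M ⟶ N) {i : ℕ}
    {x : Abelian.Ext.{u} (ModuleCat.of A (A ⧸ J)) M i} (hx : Dies T x) :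
    Dies T (x.comp (Abelian.Ext.mk₀ g) (add_zero i)) := by
  obtain ⟨J', hJ', h', e⟩ := hx
  refine ⟨J', hJ', h', ?_⟩
  rw [← Abelian.Ext.comp_assoc_of_third_deg_zero, e, Abelian.Ext.zero_comp]

/-- A class which dies is zero at every minimal point. -/
lemma cls_eq_zero_of_dies {J : Ideal A} (hJ : mem T J) {p : PrimeSpectrum A} (hp : p ∈ pts T J)
    {M : Type u} [AddCommGroup M] [Module A M] {i : ℕ}
    {x : Abelian.Ext.{u} (ModuleCat.of A (A ⧸ J)) (ModuleCat.of A M) i} (hx : Dies T x) :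
    cls p (pts_min hJ hp) x = 0 := by
  obtain ⟨J', hJ', h', e⟩ := hx
  have hp' : p ∈ pts T J' := ⟨fun a ha => hp.1 (h' ha), hp.2⟩
  rw [← cls_refine p h' (pts_min hJ hp) (pts_min hJ' hp'), e, cls_zero]

omit [IsNoetherianRing A] in
/-- Refinement by powers of the minimal points. -/
lemma exists_refinement {J : Ideal A} (hT : StableUnderSpecialization T) (hJ : mem T J)
    (S : Finset (PrimeSpectrum A)) (hS : ∀ p, p ∈ S ↔ p ∈ pts T J) (N : S → ℕ) :
    ∃ J₁ ≤ J, mem T J₁ ∧ (∀ p : S, J₁ ≤ p.1.asIdeal ^ N p) ∧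
      ∀ p, p ∈ PrimeSpectrum.zeroLocus (J₁ : Set A) → p ∉ nonMin T → p ∈ pts T J := by
  classical
  let P := ∏ p : S, p.1.asIdeal ^ N p
  have hmem : mem T (J * P) := by
    refine mem_mul hJ (Finset.prod_induction _ (mem T) (fun _ _ => mem_mul) ?_ fun p _ => ?_)
    · rw [mem, Ideal.one_eq_top, Submodule.top_coe, PrimeSpectrum.zeroLocus_univ]
      exact Set.empty_subset _
    · refine mem_pow (fun r hr => ?_) _
      exact hT ((PrimeSpectrum.le_iff_specializes _ _).1 hr) (hJ ((hS _).1 p.2).1)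
  refine ⟨J * P, Ideal.mul_le_left, hmem, fun p => Ideal.mul_le_right.trans
    (Ideal.prod_le_inf.trans (Finset.inf_le (Finset.mem_univ p))), fun p hp hmin => ?_⟩
  have hmax := eq_of_le_of_not_mem (hmem hp) hmin
  rcases (PrimeSpectrum.zeroLocus_mul J P).le hp with h' | h'
  · exact ⟨h', hmax⟩
  · obtain ⟨q, -, hq⟩ := p.isPrime.prod_le.1 h'
    have hq' := (hS _).1 q.2
    have : q.1 = p := hmax q.1 (hJ hq'.1) (p.isPrime.le_of_pow_le hq)
    exact this ▸ hq'

/-- A class which is zero at the minimal points comes from the smaller locus. -/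
theorem exists_descend (hT : StableUnderSpecialization T) {J : Ideal A} (hJ : mem T J)
    {M : Type u} [AddCommGroup M] [Module A M] {i : ℕ}
    (y : Abelian.Ext.{u} (ModuleCat.of A (A ⧸ J)) (ModuleCat.of A M) i)
    (h0 : ∀ p (hp : p ∈ pts T J), cls p (pts_min hJ hp) y = 0) :
    ∃ (J₁ J₂ : Ideal A) (h₁ : J₁ ≤ J) (h₁₂ : J₁ ≤ J₂) (_ : mem T J₁) (_ : mem (nonMin T) J₂)
      (z : Abelian.Ext.{u} (ModuleCat.of A (A ⧸ J₂)) (ModuleCat.of A M) i),
      (Abelian.Ext.mk₀ (qq h₁₂)).comp z (zero_add i) =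
        (Abelian.Ext.mk₀ (qq h₁)).comp y (zero_add i) := by
  classical
  have hS := pts_finite hJ
  choose N hN using fun p : hS.toFinset =>
    exists_kill p.1 (pts_min hJ (hS.mem_toFinset.1 p.2)) y (h0 _ (hS.mem_toFinset.1 p.2))
  obtain ⟨J₁, h₁, hJ₁, hpow, hpts⟩ := exists_refinement hT hJ hS.toFinset
    (fun p => hS.mem_toFinset) N
  let x := (Abelian.Ext.mk₀ (qq h₁)).comp y (zero_add i)
  let I : Ideal A := LinearMap.ker (LinearMap.toSpanSingleton A _ x)
  obtain ⟨t, htI, htS⟩ := exists_avoid hJ I fun p hp hle => by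
    obtain ⟨t, ht, ht'⟩ := hN ⟨p, hS.mem_toFinset.2 hp⟩ J₁ h₁ ((hpow _).trans (by
      rw [← IsLocalization.AtPrime.map_eq_maximalIdeal p.asIdeal (Localization.AtPrime p.asIdeal),
        ← Ideal.map_pow]
      exact Ideal.le_comap_map))
    exact ht (hle (LinearMap.mem_ker.2 ht'))
  obtain ⟨J₂, h₁₂, z, hty, hz⟩ := exists_eq_comp x t (LinearMap.mem_ker.1 htI)
  refine ⟨J₁, J₂, h₁, h₁₂, hJ₁, fun p hp => ?_, z, hz⟩
  by_contra hc
  exact htS p (hpts p (fun a ha => hp (h₁₂ ha)) hc) (p.isPrime.radical_le_iff.2 hp hty)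

/-- The quotient by `J : s`. -/
def col (J : Ideal A) (s : A) : Ideal A := Submodule.comap (s • LinearMap.id (R := A) (M := A)) J

omit [IsNoetherianRing A] in
lemma mem_col {J : Ideal A} {s a : A} : a ∈ col J s ↔ s * a ∈ J := Iff.rfl

/-- Multiplication by `s` as a short complex of cyclic modules. -/
noncomputable abbrev colSeq (J : Ideal A) (s : A) : ShortComplex (ModuleCat.{u} A) :=
  ShortComplex.mk
    (ModuleCat.ofHom (Submodule.mapQ (col J s) J (s • LinearMap.id) le_rfl))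
    (qq (show J ≤ J ⊔ Ideal.span {s} from le_sup_left)) (by
      refine ModuleCat.hom_ext (LinearMap.ext fun v => ?_)
      obtain ⟨b, rfl⟩ := Submodule.Quotient.mk_surjective _ v
      show Submodule.Quotient.mk (p := J ⊔ Ideal.span {s}) (s * b) = 0
      exact (Submodule.Quotient.mk_eq_zero _).2
        (Ideal.mem_sup_right (Ideal.mul_mem_right _ _ (Ideal.mem_span_singleton_self _))))

omit [IsNoetherianRing A] in
lemma colSeq_shortExact (J : Ideal A) (s : A) : (colSeq J s).ShortExact where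
  exact := (ShortComplex.moduleCat_exact_iff _).2 fun v hv => by
    obtain ⟨b, rfl⟩ := Submodule.Quotient.mk_surjective _ v
    obtain ⟨j, hj, w, hw, hjw⟩ := Submodule.mem_sup.1 ((Submodule.Quotient.mk_eq_zero _).1 hv)
    obtain ⟨a, rfl⟩ := Ideal.mem_span_singleton'.1 hw
    refine ⟨Submodule.Quotient.mk a, (Submodule.Quotient.eq J).2 ?_⟩
    show s * a - b ∈ J
    rw [show (LinearMap.id : A →ₗ[A] A) b = b from rfl] at hjw
    rw [← hjw]
    simpa [mul_comm] using neg_mem hj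
  mono_f := (ModuleCat.mono_iff_injective _).2 ((injective_iff_map_eq_zero _).2 fun v hv => by
    obtain ⟨a, rfl⟩ := Submodule.Quotient.mk_surjective _ v
    exact (Submodule.Quotient.mk_eq_zero _).2
      (mem_col.2 ((Submodule.Quotient.mk_eq_zero _).1 hv)))
  epi_g := (ModuleCat.epi_iff_surjective _).2 fun z => by
    obtain ⟨z, rfl⟩ := Submodule.Quotient.mk_surjective _ z
    exact ⟨Submodule.Quotient.mk z, rfl⟩

omit [IsNoetherianRing A] in
lemma col_mono {J' J : Ideal A} (h : J' ≤ J) (s : A) : col J' s ≤ col J s :=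
  Submodule.comap_mono h

/-- Functoriality in `J`. -/
noncomputable def colHom {J' J : Ideal A} (h : J' ≤ J) (s : A) : colSeq J' s ⟶ colSeq J s where
  τ₁ := qq (col_mono h s)
  τ₂ := qq h
  τ₃ := qq (sup_le_sup_right h _)
  comm₁₂ := ModuleCat.hom_ext (LinearMap.ext fun v => by
    obtain ⟨b, rfl⟩ := Submodule.Quotient.mk_surjective _ v
    rfl)
  comm₂₃ := ModuleCat.hom_ext (LinearMap.ext fun v => by
    obtain ⟨b, rfl⟩ := Submodule.Quotient.mk_surjective _ v
    rfl)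

/-- A class of the smaller locus which dies in `T` dies in the smaller locus one step later. -/
theorem dies_nonMin (hT : StableUnderSpecialization T) {M N : Type u} [AddCommGroup M] [Module A M]
    [AddCommGroup N] [Module A N] (f : M →ₗ[A] N) (i : ℕ)
    (hf : ∀ j, i = j + 1 → ∀ p ∈ T, ∀ v : lcq p j M, lcqMap p j f v = 0)
    {J₂ : Ideal A} (hJ₂ : mem (nonMin T) J₂)
    (z : Abelian.Ext.{u} (ModuleCat.of A (A ⧸ J₂)) (ModuleCat.of A M) i) (hz : Dies T z) :
    Dies (nonMin T) (z.comp (Abelian.Ext.mk₀ (ModuleCat.ofHom f)) (add_zero i)) := by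
  classical
  obtain ⟨J', hJ', h', e⟩ := hz
  rcases i with _ | j
  · refine ⟨J₂, hJ₂, le_rfl, ?_⟩
    have : Epi (qq h') := (ModuleCat.epi_iff_surjective _).2 fun v => by
      obtain ⟨b, rfl⟩ := Submodule.Quotient.mk_surjective _ v
      exact ⟨Submodule.Quotient.mk b, rfl⟩
    obtain ⟨g, hg⟩ := Abelian.Ext.homEquiv₀.symm.surjective z
    rw [Abelian.Ext.homEquiv₀_symm_apply] at hg
    subst hg
    rw [Abelian.Ext.mk₀_comp_mk₀, Abelian.Ext.mk₀_eq_zero_iff] at e
    rw [(cancel_epi (qq h')).1 (e.trans comp_zero.symm)]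
    simp
  have hS := pts_finite hJ'
  obtain ⟨s, hs₂, hs⟩ := exists_avoid hJ' J₂ fun p hp hle =>
    not_mem_nonMin hp.2 (hJ₂ fun a ha => hle ha)
  have hle₂ : J' ⊔ Ideal.span {s} ≤ J₂ := sup_le h' ((Ideal.span_singleton_le_iff_mem _).2 hs₂)
  obtain ⟨w, hw⟩ := Abelian.Ext.contravariant_sequence_exact₃ (colSeq_shortExact J' s) _
    ((Abelian.Ext.mk₀ (qq hle₂)).comp z (zero_add _)) (by
      rw [← Abelian.Ext.comp_assoc_of_second_deg_zero, Abelian.Ext.mk₀_comp_mk₀]
      show (Abelian.Ext.mk₀ (qq _ ≫ qq _)).comp z _ = 0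
      rw [qq_comp, e]) (show 1 + j = j + 1 from Nat.add_comm 1 j)
  let wf := w.comp (Abelian.Ext.mk₀ (ModuleCat.ofHom f)) (add_zero j)
  have hcol : mem T (col J' s) := fun p hp => hJ' fun a ha => hp (Ideal.mul_mem_left _ s ha)
  have hpts0 : ∀ {p}, p ∈ pts T J' → p ∈ pts T (col J' s) := fun {p} hp =>
    ⟨fun a ha => (p.isPrime.mem_or_mem (hp.1 (mem_col.1 ha))).resolve_left (hs p hp), hp.2⟩
  choose n hn using fun p : hS.toFinset =>
    exists_kill p.1 (pts_min hcol (hpts0 (hS.mem_toFinset.1 p.2))) wf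
      ((cls_comp p.1 (pts_min hcol (hpts0 (hS.mem_toFinset.1 p.2))) w f).trans
        (hf j rfl p.1 (hJ' (hS.mem_toFinset.1 p.2).1) _))
  obtain ⟨J'', h'', hJ'', hpow, hpts⟩ := exists_refinement hT hJ' hS.toFinset
    (fun p => hS.mem_toFinset) n
  let x := (Abelian.Ext.mk₀ (qq (col_mono h'' s))).comp wf (zero_add j)
  let I : Ideal A := LinearMap.ker (LinearMap.toSpanSingleton A _ x)
  obtain ⟨t, htI, htS⟩ := exists_avoid hJ' I fun p hp hle => by
    obtain ⟨t, ht, ht'⟩ := hn ⟨p, hS.mem_toFinset.2 hp⟩ (col J'' s) (col_mono h'' s) fun a ha => by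
      have h1 : algebraMap A (Localization.AtPrime p.asIdeal) (s * a) ∈
          IsLocalRing.maximalIdeal (Localization.AtPrime p.asIdeal) ^
            n ⟨p, hS.mem_toFinset.2 hp⟩ := by
        rw [← IsLocalization.AtPrime.map_eq_maximalIdeal p.asIdeal (Localization.AtPrime p.asIdeal),
          ← Ideal.map_pow]
        exact Ideal.mem_map_of_mem _ (hpow _ (mem_col.1 ha))
      rw [map_mul] at h1
      exact (Ideal.unit_mul_mem_iff_mem _ (IsLocalization.map_units
        (Localization.AtPrime p.asIdeal) (⟨s, hs p hp⟩ : p.asIdeal.primeCompl))).1 h1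
    exact ht (hle (LinearMap.mem_ker.2 ht'))
  obtain ⟨Js, hJs, y, hty, hy⟩ := exists_eq_comp x t (LinearMap.mem_ker.1 htI)
  let J₃ := J'' ⊔ Ideal.span {s} * Js
  have h₃ : J'' ≤ J₃ := le_sup_left
  have hcol₃ : col J₃ s ≤ Js := fun a ha => by
    obtain ⟨j₁, hj₁, w₁, hw₁, hjw⟩ := Submodule.mem_sup.1 (mem_col.1 ha)
    obtain ⟨b, hb, rfl⟩ := Ideal.mem_span_singleton_mul.1 hw₁
    have : a - b ∈ col J'' s := by
      rw [mem_col, mul_sub, ← hjw]
      simpa using hj₁
    simpa using Js.add_mem (hJs this) hb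
  have hmem₃ : mem (nonMin T) J₃ := fun p hp => by
    by_contra hc
    have hp' := hpts p (fun a ha => hp (h₃ ha)) hc
    rcases p.isPrime.mul_le.1 (le_sup_right.trans (show J₃ ≤ p.asIdeal from hp)) with h1 | h1
    · exact hs p hp' (h1 (Ideal.mem_span_singleton_self s))
    · exact htS p hp' (p.isPrime.radical_le_iff.2 h1 hty)
  have h₃₂ : J₃ ≤ J'' ⊔ Ideal.span {s} := sup_le le_sup_left (Ideal.mul_le_left.trans le_sup_right)
  refine ⟨J₃, hmem₃, h₃₂.trans ((sup_le_sup_right h'' _).trans hle₂), ?_⟩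
  have n₁ := ShortComplex.ShortExact.extClass_naturality (colSeq_shortExact J'' s)
    (colSeq_shortExact J' s) (colHom h'' s)
  have n₂ := ShortComplex.ShortExact.extClass_naturality (colSeq_shortExact J'' s)
    (colSeq_shortExact J₃ s) (colHom h₃ s)
  let y₃ := (Abelian.Ext.mk₀ (qq hcol₃)).comp y (zero_add j)
  have hxy : x = (Abelian.Ext.mk₀ (qq (col_mono h₃ s))).comp y₃ (zero_add j) := by
    rw [← Abelian.Ext.comp_assoc_of_second_deg_zero, Abelian.Ext.mk₀_comp_mk₀, qq_comp]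
    exact hy.symm
  rw [← qq_comp h₃₂ ((sup_le_sup_right h'' _).trans hle₂),
    ← qq_comp (sup_le_sup_right h'' (Ideal.span {s})) hle₂, ← Abelian.Ext.mk₀_comp_mk₀,
    ← Abelian.Ext.mk₀_comp_mk₀, Abelian.Ext.comp_assoc_of_second_deg_zero,
    Abelian.Ext.comp_assoc_of_second_deg_zero,
    ← Abelian.Ext.comp_assoc_of_third_deg_zero (Abelian.Ext.mk₀ (qq hle₂)), ← hw]
  have e1 : (Abelian.Ext.mk₀ (colHom h'' s).τ₃).comp
      (((colSeq_shortExact J' s).extClass.comp w (show 1 + j = j + 1 from Nat.add_comm 1 j)).comp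
        (Abelian.Ext.mk₀ (ModuleCat.ofHom f)) (add_zero _)) (zero_add _) =
      (Abelian.Ext.mk₀ (colHom h₃ s).τ₃).comp ((colSeq_shortExact J₃ s).extClass.comp y₃
        (show 1 + j = j + 1 from Nat.add_comm 1 j)) (zero_add _) := by
    rw [Abelian.Ext.comp_assoc_of_third_deg_zero,
      ← Abelian.Ext.comp_assoc (Abelian.Ext.mk₀ (colHom h'' s).τ₃) _ wf (zero_add 1)
        (show 1 + j = j + 1 from Nat.add_comm 1 j) (by omega), ← n₁,
      Abelian.Ext.comp_assoc_of_second_deg_zero]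
    show (colSeq_shortExact J'' s).extClass.comp x _ = _
    rw [hxy, ← Abelian.Ext.comp_assoc_of_second_deg_zero]
    exact (congrArg (fun c => Abelian.Ext.comp c y₃ (show 1 + j = j + 1 from Nat.add_comm 1 j))
      n₂).trans (Abelian.Ext.comp_assoc _ _ _ (zero_add 1) (Nat.add_comm 1 j) (by omega))
  refine (congrArg (fun c => (Abelian.Ext.mk₀ (qq h₃₂)).comp c (zero_add (j + 1))) e1).trans ?_
  rw [← Abelian.Ext.comp_assoc_of_second_deg_zero, Abelian.Ext.mk₀_comp_mk₀,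
    show qq h₃₂ ≫ (colHom h₃ s).τ₃ = (colSeq J₃ s).g from qq_comp _ _]
  exact ShortComplex.ShortExact.comp_extClass_assoc _ _ _

/-- The devissage on the chains of `T`. -/
theorem main (M : ℕ → Type u) [∀ n, AddCommGroup (M n)] [∀ n, Module A (M n)]
    (φ : ∀ k m : ℕ, m ≤ k → (M k →ₗ[A] M m))
    (hφ : ∀ (k l m : ℕ) (h₁ : m ≤ l) (h₂ : l ≤ k), φ k m (h₁.trans h₂) = φ l m h₁ ∘ₗ φ k l h₂)
    (i : ℕ) (m' : ℕ → ℕ) (hm' : ∀ m, m ≤ m' m) :
    ∀ (n : ℕ) (T : Set (PrimeSpectrum A)), StableUnderSpecialization T →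
      (∀ s : LTSeries T, s.length < n) →
      (∀ j, i = j + 1 → ∀ p ∈ T, ∀ (m k : ℕ) (h : m ≤ k), m' m ≤ k → ∀ v,
        lcqMap p j (φ k m h) v = 0) →
      (∀ p ∈ T, ∀ (m k : ℕ) (h : m ≤ k), m' m ≤ k → ∀ v, lcqMap p i (φ k m h) v ∈
        LinearMap.range (lcqMap p i (φ (m' m) m (hm' m)))) →
      (∀ p ∈ T, ∀ m v, v ∈ LinearMap.range (lcqMap p i (φ (m' m) m (hm' m))) →
        lcqMap p i (φ m 0 (Nat.zero_le m)) v = 0 → v = 0) →
      ∃ m₀ : ℕ, ∀ m, ∀ (hm : m₀ ≤ m), ∃ m'' : ℕ, m ≤ m'' ∧ ∀ (k : ℕ) (h : m ≤ k), m'' ≤ k →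
        ∀ J : Ideal A, mem T J →
        ∀ ξ : Abelian.Ext.{u} (ModuleCat.of A (A ⧸ J)) (ModuleCat.of A (M k)) i,
          Dies T (ξ.comp (Abelian.Ext.mk₀ (ModuleCat.ofHom (φ k m₀ (hm.trans h)))) (add_zero i)) →
          Dies T (ξ.comp (Abelian.Ext.mk₀ (ModuleCat.ofHom (φ k m h))) (add_zero i)) := by
  classical
  have hc : ∀ {J : Ideal A} (a b c : ℕ) (h₁ : c ≤ b) (h₂ : b ≤ a)
      (x : Abelian.Ext.{u} (ModuleCat.of A (A ⧸ J)) (ModuleCat.of A (M a)) i),
      x.comp (Abelian.Ext.mk₀ (ModuleCat.ofHom (φ a c (h₁.trans h₂)))) (add_zero i) =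
      (x.comp (Abelian.Ext.mk₀ (ModuleCat.ofHom (φ a b h₂))) (add_zero i)).comp
        (Abelian.Ext.mk₀ (ModuleCat.ofHom (φ b c h₁))) (add_zero i) :=
    fun a b c h₁ h₂ x => by
    rw [Abelian.Ext.comp_assoc_of_third_deg_zero, Abelian.Ext.mk₀_comp_mk₀, hφ a b c h₁ h₂]
    rfl
  intro n
  induction n with
  | zero =>
    intro T _ hlen _ _ _
    refine ⟨0, fun m _ => ⟨m, le_rfl, fun k h _ J hJ ξ _ => ⟨J, hJ, le_rfl, ?_⟩⟩⟩
    have hJT : J = ⊤ := by
      rw [← PrimeSpectrum.zeroLocus_empty_iff_eq_top, Set.eq_empty_iff_forall_notMem]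
      exact fun p hp => absurd (hlen (RelSeries.singleton _ ⟨p, hJ hp⟩)) (Nat.not_lt_zero _)
    have : Subsingleton (A ⧸ J) := Submodule.Quotient.subsingleton_iff.2 hJT
    rw [show qq (le_refl J) = 0 from ModuleCat.hom_ext (LinearMap.ext fun _ => Subsingleton.elim _ _),
      Abelian.Ext.mk₀_zero, Abelian.Ext.zero_comp]
  | succ n ih =>
    intro T hT hlen hf hr hi
    have hlen' : ∀ s : LTSeries (nonMin T), s.length < n := fun s => by
      obtain ⟨-, r, hr, hrs⟩ := s.head.2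
      let s' : LTSeries T := s.map (fun p => ⟨p.1, p.2.1⟩) fun a b hab => hab
      have := hlen (s'.cons ⟨r, hr⟩ (show (⟨r, hr⟩ : T) < s'.head from hrs))
      simp only [RelSeries.cons_length] at this
      exact Nat.lt_of_succ_lt_succ this
    obtain ⟨n₀, hn₀⟩ := ih (nonMin T) (nonMin_stable hT) hlen'
      (fun j hj p hp => hf j hj p hp.1) (fun p hp => hr p hp.1) (fun p hp => hi p hp.1)
    refine ⟨m' n₀, fun m hm => ?_⟩
    obtain ⟨l, hl, hl'⟩ := hn₀ m ((hm' n₀).trans hm)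
    refine ⟨m' l, hl.trans (hm' l), fun k h hk J hJ ξ hd => ?_⟩
    have hlk : l ≤ k := (hm' l).trans hk
    let y := ξ.comp (Abelian.Ext.mk₀ (ModuleCat.ofHom (φ k l hlk))) (add_zero i)
    have hd' : Dies T (y.comp (Abelian.Ext.mk₀ (ModuleCat.ofHom (φ l (m' n₀) (hm.trans hl))))
        (add_zero i)) := by
      rw [← hc]
      exact hd
    have h0 : ∀ p (hp : p ∈ pts T J), cls p (pts_min hJ hp) y = 0 := fun p hp => by
      refine hi p (hJ hp.1) l _ ?_ ?_
      · rw [cls_comp]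
        exact hr p (hJ hp.1) l k hlk hk _
      · rw [← cls_comp, hc l (m' n₀) 0 (Nat.zero_le _) (hm.trans hl)]
        exact cls_eq_zero_of_dies hJ hp (dies_map _ hd')
    obtain ⟨J₁, J₂, h₁, h₁₂, hJ₁, hJ₂, z, hz⟩ := exists_descend hT hJ y h0
    have hz' : Dies T (z.comp (Abelian.Ext.mk₀ (ModuleCat.ofHom (φ l (m' n₀) (hm.trans hl))))
        (add_zero i)) := by
      refine dies_of_pullback h₁₂ ?_
      rw [← Abelian.Ext.comp_assoc_of_third_deg_zero, hz, Abelian.Ext.comp_assoc_of_third_deg_zero]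
      exact dies_pullback h₁ hJ₁ hd'
    have hz0 := dies_nonMin hT (φ (m' n₀) n₀ (hm' n₀)) i
      (fun j hj p hp v => hf j hj p hp n₀ (m' n₀) (hm' n₀) le_rfl v) hJ₂ _ hz'
    rw [← hc] at hz0
    obtain ⟨J₃, hJ₃, h₃, e⟩ := hl' l hl le_rfl J₂ hJ₂ z hz0
    have hzm : Dies T (z.comp (Abelian.Ext.mk₀ (ModuleCat.ofHom (φ l m hl))) (add_zero i)) :=
      ⟨J₃, fun p hp => (hJ₃ hp).1, h₃, e⟩
    rw [hc k l m hl hlk]
    refine dies_of_pullback h₁ ?_
    rw [← Abelian.Ext.comp_assoc_of_third_deg_zero, ← hz, Abelian.Ext.comp_assoc_of_third_deg_zero]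
    exact dies_pullback h₁₂ hJ₁ hzm

omit [IsNoetherianRing A] in
/-- Transfer to `H^i_T`. -/
theorem eq_zero_of_dies {M : ℕ → Type u} [∀ n, AddCommGroup (M n)] [∀ n, Module A (M n)]
    {i k m m₀ : ℕ} (f : M k →ₗ[A] M m) (g : M m →ₗ[A] M m₀)
    (H : ∀ J : Ideal A, mem T J →
      ∀ ξ : Abelian.Ext.{u} (ModuleCat.of A (A ⧸ J)) (ModuleCat.of A (M k)) i,
        Dies T (ξ.comp (Abelian.Ext.mk₀ (ModuleCat.ofHom (g ∘ₗ f))) (add_zero i)) →
        Dies T (ξ.comp (Abelian.Ext.mk₀ (ModuleCat.ofHom f)) (add_zero i)))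
    (x : (localCohomology.ofDiagram (Dual2.idealsInDiagram T) i).obj (ModuleCat.of A (M m)))
    (hx : x ∈ LinearMap.range
      ((localCohomology.ofDiagram (Dual2.idealsInDiagram T) i).map (ModuleCat.ofHom f)).hom)
    (hx0 : ((localCohomology.ofDiagram (Dual2.idealsInDiagram T) i).map
      (ModuleCat.ofHom g)).hom x = 0) : x = 0 := by
  obtain ⟨y, rfl⟩ := hx
  let e₀ : localCohomology.ofDiagram.{u, u} (Dual2.idealsInDiagram T) i ≅ colimExt (sys T) i :=
    HasColimit.isoOfNatIso (Functor.isoWhiskerLeft (sys T) (LocalCoh.extIso A i))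
  have hn : ∀ {a b : ModuleCat.{u} A} (g : a ⟶ b) v,
      (e₀.hom.app b).hom (((localCohomology.ofDiagram (Dual2.idealsInDiagram T) i).map g).hom v) =
        ((colimExt (sys T) i).map g).hom ((e₀.hom.app a).hom v) := fun g v =>
    ConcreteCategory.congr_hom (e₀.hom.naturality g) v
  obtain ⟨j, α, hα⟩ := colimExt.exists_rep (sys T) i _ ((e₀.hom.app (ModuleCat.of A (M k))).hom y)
  have hinj := fun a => (ModuleCat.mono_iff_injective (e₀.hom.app a)).1 inferInstance
  have h0 : ((colimExt (sys T) i).map (ModuleCat.ofHom g)).hom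
      (((colimExt (sys T) i).map (ModuleCat.ofHom f)).hom
        ((colimExt.ι (sys T) i j _).hom α)) = 0 := by
    rw [hα, ← hn, ← hn]
    exact (congrArg _ hx0).trans (map_zero _)
  rw [colimExt.map_ι_apply, colimExt.map_ι_apply, Abelian.Ext.comp_assoc_of_third_deg_zero,
    Abelian.Ext.mk₀_comp_mk₀] at h0
  obtain ⟨j', a, e⟩ := (colimExt.ι_eq_zero_iff _ _ _ _ _).1 h0
  obtain ⟨J', hJ', hle, e'⟩ := H j.unop.obj j.unop.property α
    ⟨j'.unop.obj, j'.unop.property, a.unop.hom.le, e⟩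
  refine hinj _ ((hn _ _).trans (Eq.trans ?_ (map_zero _).symm))
  rw [← hα, colimExt.map_ι_apply]
  exact (colimExt.ι_eq_zero_iff _ _ _ _ _).2 ⟨idx J' hJ', arr j.unop.property hJ' hle, e'⟩

end Global

end Groth.Agent.Lib.ProZero.PointInj
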