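import Groth.Agent.Lib.ProZero.KillMap
import Groth.Prelude.Def_DualLC
import Groth.Agent.Lib.RGamma.HTExt
import Groth.Agent.Lib.RGamma.LocalKill
import Groth.Agent.Lib.DMod.FlatHom
import Mathlib.Algebra.Homology.DerivedCategory.Ext.Map
import Mathlib.Algebra.Homology.DerivedCategory.Ext.ExactSequences
import Mathlib.RingTheory.Localization.BaseChange

/-!
# Vanishing of maps on `H^i_T` from vanishing at the points of `T`
-/

universe u

open CategoryTheory CategoryTheory.Limits TensorProduct Opposite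

attribute [local instance] HasDerivedCategory.standard

namespace Groth.Agent.Lib.ProZero.Pointwise

open Groth.Agent.Lib.RGamma Groth.Agent.Lib.RGamma.HDT Groth.Agent.Lib.DMod.FlatHom
  Groth.Agent.Lib.LocalCoh Groth.Agent.Lib.DR

variable {A : Type u} [CommRing A] [IsNoetherianRing A]

section Local

variable (q : PrimeSpectrum A)

local notation "R" => Localization.AtPrime q.asIdeal

omit [IsNoetherianRing A] in
/-- Extension of scalars of a map. -/
lemma extEquiv_natural {M N : Type u} [AddCommGroup M] [Module A M] [AddCommGroup N] [Module A N]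
    (f : M →ₗ[A] N) :
    (E A R).map (ModuleCat.ofHom f) ≫ (FlatBC.extEquiv A R N).toModuleIso.hom =
      (FlatBC.extEquiv A R M).toModuleIso.hom ≫ ModuleCat.ofHom (f.baseChange R) :=
  ModuleCat.ExtendScalars.hom_ext fun _ => rfl

/-- Localization of `Ext` detects zero. -/
theorem exists_smul_eq_zero {X Y : Type u} [AddCommGroup X] [Module A X] [Module.Finite A X]
    [AddCommGroup Y] [Module A Y] {i : ℕ} (x : Abelian.Ext.{u} (ModuleCat.of A X) (ModuleCat.of A Y) i)
    (h : x.mapExactFunctor (E A R) = 0) : ∃ t ∉ q.asIdeal, t • x = 0 := by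
  have h0 : (x.mapExactFunctor (E A R)).hom = 0 := by rw [h, Abelian.Ext.zero_hom]
  rw [Abelian.Ext.mapExactFunctor_hom] at h0
  have h1 : x.hom.map (L A R) = 0 :=
    (cancel_epi ((E A R).mapDerivedCategorySingleFunctor 0 |>.inv.app (ModuleCat.of A X))).1
      ((cancel_mono ((((E A R).mapDerivedCategorySingleFunctor 0).hom.app
        (ModuleCat.of A Y))⟦(i : ℤ)⟧')).1 ((Category.assoc _ _ _).trans
          (h0.trans (by rw [comp_zero, zero_comp]))))
  have h2 : (L A R).map x.hom = 0 :=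
    (cancel_mono (((L A R).commShiftIso (i : ℤ)).hom.app _)).1 (h1.trans zero_comp.symm)
  have hY : (Dual.inD A Y).IsGE 0 := inferInstance
  have h3 := (bij_inD (B := R) X (isGE_shift_neg hY (i : ℤ))).1
    (a₁ := (1 : R) ⊗ₜ[A] (show Dual.inD A X ⟶ (Dual.inD A Y)⟦(i : ℤ)⟧ from x.hom)) (a₂ := 0)
    (by rw [map_zero, Φ_tmul, one_smul]; exact h2)
  obtain ⟨t, ht, ht'⟩ := (LocalKill.tmul_eq_zero_iff q _).1 h3
  refine ⟨t, ht, (toD (ModuleCat.of A X) (ModuleCat.of A Y) i).injective ?_⟩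
  rw [map_smul, map_zero]
  exact ht'

/-- A class killed at every level after localization is killed by an element off `q`. -/
theorem exists_refine {M N : Type u} [AddCommGroup M] [Module A M] [AddCommGroup N] [Module A N]
    (f : M →ₗ[A] N) (i : ℕ)
    (hf : (localCohomology (IsLocalRing.maximalIdeal R) i).map
      (ModuleCat.ofHom (LocalizedModule.map q.asIdeal.primeCompl f)) = 0)
    (J : Ideal A) (hq : q.asIdeal ∈ J.minimalPrimes)
    (ξ : Abelian.Ext.{u} (ModuleCat.of A (A ⧸ J)) (ModuleCat.of A M) i) :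
    ∃ n : ℕ, ∀ (J' : Ideal A) (hJ' : J' ≤ J), J' ≤ q.asIdeal ^ n → ∃ t ∉ q.asIdeal,
      t • ((Abelian.Ext.mk₀ (qq hJ')).comp (ξ.comp (Abelian.Ext.mk₀ (ModuleCat.ofHom f))
        (add_zero i)) (zero_add i)) = 0 := by
  let S := q.asIdeal.primeCompl
  have hsq : ModuleCat.ofHom (f.baseChange R) ≫
      (LocalizedModule.equivTensorProduct S N).symm.toModuleIso.hom =
      (LocalizedModule.equivTensorProduct S M).symm.toModuleIso.hom ≫
        ModuleCat.ofHom (LocalizedModule.map S f) := by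
    ext1
    refine LinearMap.ext fun z => ?_
    induction z using TensorProduct.induction_on with
    | zero => simp only [map_zero]
    | tmul r m =>
      induction r using Localization.induction_on with
      | H w => obtain ⟨a, s⟩ := w; simp [LocalizedModule.map_mk, S]
    | add a b ha hb => simp only [map_add, ha, hb]
  let IM := (FlatBC.extEquiv A R M).toModuleIso ≪≫
    (LocalizedModule.equivTensorProduct S M).symm.toModuleIso
  let IN := (FlatBC.extEquiv A R N).toModuleIso ≪≫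
    (LocalizedModule.equivTensorProduct S N).symm.toModuleIso
  have hIN : (E A R).map (ModuleCat.ofHom f) =
      IM.hom ≫ ModuleCat.ofHom (LocalizedModule.map S f) ≫ IN.inv := by
    rw [← Category.assoc, Iso.eq_comp_inv]
    simp only [IM, IN, Iso.trans_hom, Category.assoc]
    rw [← hsq, ← Category.assoc, ← Category.assoc]
    exact congrArg (· ≫ (LocalizedModule.equivTensorProduct S N).symm.toModuleIso.hom)
      (extEquiv_natural q f)
  have hE : (colimExt (quotSys (IsLocalRing.maximalIdeal R)) i).map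
      ((E A R).map (ModuleCat.ofHom f)) = 0 := by
    apply (cancel_epi ((lcIso (IsLocalRing.maximalIdeal R) i).hom.app _)).1
    rw [← (lcIso (IsLocalRing.maximalIdeal R) i).hom.naturality, comp_zero, hIN, Functor.map_comp,
      Functor.map_comp]
    rw [show (localCohomology (IsLocalRing.maximalIdeal R) i).map
      (ModuleCat.ofHom (LocalizedModule.map S f)) = 0 from hf, zero_comp, comp_zero, zero_comp]
  let g : A ⧸ J →ₗ[A] R ⊗[A] (A ⧸ J) := (TensorProduct.mk A R (A ⧸ J)) 1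
  obtain ⟨n₀, hn₀⟩ : ∃ n₀, IsLocalRing.maximalIdeal R ^ n₀ ≤ J.map (algebraMap A R) := by
    refine Ideal.exists_pow_le_of_le_radical_of_fg_radical ?_ (IsNoetherian.noetherian _)
    rw [Ideal.radical_eq_sInf]
    refine le_sInf fun P ⟨hP, hPp⟩ => ?_
    rw [← IsLocalization.AtPrime.map_eq_maximalIdeal q.asIdeal R, Ideal.map_le_iff_le_comap]
    exact hq.2 ⟨hPp.comap _, Ideal.map_le_iff_le_comap.1 hP⟩ fun v hv => by
      by_contra hv'
      exact hPp.ne_top (Ideal.eq_top_of_isUnit_mem _ hv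
        (IsLocalization.map_units R (⟨v, hv'⟩ : q.asIdeal.primeCompl)))
  let e := (FlatBC.extEquiv A R (A ⧸ J))
  let c : R ⊗[A] (A ⧸ J) := (1 : R) ⊗ₜ[A] Ideal.Quotient.mk J 1
  have hc : IsLocalRing.maximalIdeal R ^ n₀ ≤
      LinearMap.ker (LinearMap.toSpanSingleton R _ c) := by
    refine hn₀.trans (Ideal.map_le_iff_le_comap.2 fun a ha => ?_)
    rw [Ideal.mem_comap, LinearMap.mem_ker, LinearMap.toSpanSingleton_apply, algebraMap_smul,
      ← TensorProduct.tmul_smul, Algebra.smul_def, map_one, mul_one, Ideal.Quotient.algebraMap_eq,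
      Ideal.Quotient.eq_zero_iff_mem.2 ha, TensorProduct.tmul_zero]
  let k₀ : ℕᵒᵖᵒᵖ := op (op n₀)
  let γ₁ : ModuleCat.of R (R ⧸ IsLocalRing.maximalIdeal R ^ n₀) ⟶
      ModuleCat.of R (R ⊗[A] (A ⧸ J)) :=
    ModuleCat.ofHom (Submodule.liftQ (IsLocalRing.maximalIdeal R ^ n₀)
      (LinearMap.toSpanSingleton R _ c) hc)
  let γ : ((quotSys (IsLocalRing.maximalIdeal R)).obj k₀).unop ⟶
      (E A R).obj (ModuleCat.of A (A ⧸ J)) := γ₁ ≫ e.toModuleIso.inv
  let η : Abelian.Ext.{u} ((quotSys (IsLocalRing.maximalIdeal R)).obj k₀).unop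
      ((E A R).obj (ModuleCat.of A M)) i :=
    (Abelian.Ext.mk₀ γ).comp (ξ.mapExactFunctor (E A R)) (zero_add i)
  have h0 : (colimExt.ι (quotSys (IsLocalRing.maximalIdeal R)) i k₀ _).hom
      (η.comp (Abelian.Ext.mk₀ ((E A R).map (ModuleCat.ofHom f))) (add_zero i)) = 0 := by
    rw [← colimExt.map_ι_apply, hE]
    rfl
  obtain ⟨k, a, hk⟩ := (colimExt.ι_eq_zero_iff _ _ _ _ _).1 h0
  refine ⟨k.unop.unop, fun J' hJ' hq' => exists_smul_eq_zero q _ ?_⟩
  have hm : J' ≤ Submodule.comap (Algebra.linearMap A R)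
      ((IsLocalRing.maximalIdeal R ^ k.unop.unop).restrictScalars A) := fun v hv => by
    show algebraMap A R v ∈ IsLocalRing.maximalIdeal R ^ k.unop.unop
    rw [← IsLocalization.AtPrime.map_eq_maximalIdeal q.asIdeal R, ← Ideal.map_pow]
    exact Ideal.mem_map_of_mem _ (hq' hv)
  let ψ₁ : A ⧸ J' →ₗ[A] R ⧸ IsLocalRing.maximalIdeal R ^ k.unop.unop :=
    Submodule.liftQ J'
      (((Submodule.mkQ (IsLocalRing.maximalIdeal R ^ k.unop.unop)).restrictScalars A) ∘ₗ
        Algebra.linearMap A R) fun v hv =>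
      LinearMap.mem_ker.2 ((Submodule.Quotient.mk_eq_zero _).2 (hm hv))
  let ψ : (E A R).obj (ModuleCat.of A (A ⧸ J')) ⟶
      ((quotSys (IsLocalRing.maximalIdeal R)).obj k).unop :=
    (FlatBC.extEquiv A R (A ⧸ J')).toModuleIso.hom ≫
      (ModuleCat.ofHom (LinearMap.liftBaseChange R ψ₁) :
        ModuleCat.of R (R ⊗[A] (A ⧸ J')) ⟶
          ModuleCat.of R (R ⧸ IsLocalRing.maximalIdeal R ^ k.unop.unop))
  have hψ : (E A R).map (qq hJ') =
      ψ ≫ ((quotSys (IsLocalRing.maximalIdeal R)).map a).unop ≫ γ := by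
    refine ModuleCat.ExtendScalars.hom_ext fun m => ?_
    obtain ⟨b, rfl⟩ := Submodule.Quotient.mk_surjective _ m
    refine (FlatBC.extEquiv A R (A ⧸ J)).injective ?_
    refine Eq.trans (b := (1 : R) ⊗ₜ[A] Submodule.Quotient.mk b) rfl ?_
    refine Eq.trans ?_ (congrArg _ (rfl : e.symm (((1 : R) • algebraMap A R b) • c) = _))
    refine Eq.trans ?_ (e.apply_symm_apply _).symm
    rw [one_smul, algebraMap_smul, ← TensorProduct.tmul_smul]
    refine congrArg ((1 : R) ⊗ₜ[A] ·) ?_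
    rw [Algebra.smul_def, map_one, mul_one]
    rfl
  rw [Abelian.Ext.mapExactFunctor_comp, Abelian.Ext.mapExactFunctor_comp,
    Abelian.Ext.mapExactFunctor_mk₀, Abelian.Ext.mapExactFunctor_mk₀, hψ]
  have e' : (Abelian.Ext.mk₀ ((quotSys (IsLocalRing.maximalIdeal R)).map a).unop).comp
      ((Abelian.Ext.mk₀ γ).comp ((ξ.mapExactFunctor (E A R)).comp
        (Abelian.Ext.mk₀ ((E A R).map (ModuleCat.ofHom f))) (add_zero i)) (zero_add i))
      (zero_add i) = 0 := by
    rw [← Abelian.Ext.comp_assoc_of_third_deg_zero]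
    exact hk
  clear_value ψ γ
  rw [← Abelian.Ext.mk₀_comp_mk₀ ψ,
    ← Abelian.Ext.mk₀_comp_mk₀ ((quotSys (IsLocalRing.maximalIdeal R)).map a).unop γ]
  rw [Abelian.Ext.comp_assoc_of_second_deg_zero, Abelian.Ext.comp_assoc_of_second_deg_zero, e',
    Abelian.Ext.comp_zero]

end Local

variable {T : Set (PrimeSpectrum A)}

/-- `x` becomes zero in the limit over `T`. -/
def Dies (T : Set (PrimeSpectrum A)) {J : Ideal A} {M : ModuleCat.{u} A} {i : ℕ}
    (x : Abelian.Ext.{u} (ModuleCat.of A (A ⧸ J)) M i) : Prop :=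
  ∃ (J' : Ideal A) (_ : mem T J') (h : J' ≤ J), (Abelian.Ext.mk₀ (qq h)).comp x (zero_add i) = 0

omit [IsNoetherianRing A] in
lemma qq_comp {J₁ J₂ J₃ : Ideal A} (h₁ : J₁ ≤ J₂) (h₂ : J₂ ≤ J₃) :
    qq h₁ ≫ qq h₂ = qq (h₁.trans h₂) :=
  ModuleCat.hom_ext (LinearMap.ext fun z => by
    obtain ⟨z, rfl⟩ := Submodule.Quotient.mk_surjective _ z
    rfl)

/-- A class killed by `t` comes from the locus `t = 0`. -/
theorem exists_eq_comp {J : Ideal A} {M : ModuleCat.{u} A} {i : ℕ}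
    (x : Abelian.Ext.{u} (ModuleCat.of A (A ⧸ J)) M i) (t : A) (ht : t • x = 0) :
    ∃ (J' : Ideal A) (h : J ≤ J') (y : Abelian.Ext.{u} (ModuleCat.of A (A ⧸ J')) M i),
      t ∈ J'.radical ∧ (Abelian.Ext.mk₀ (qq h)).comp y (zero_add i) = x := by
  let μ : A ⧸ J →ₗ[A] A ⧸ J := t • LinearMap.id
  obtain ⟨N, hN⟩ := monotone_stabilizes_iff_noetherian.2 (inferInstance : IsNoetherianRing A)
    ⟨fun n => LinearMap.ker ((t ^ n) • (Submodule.mkQ J)), fun n m h v hv => by
      obtain ⟨d, rfl⟩ := Nat.exists_eq_add_of_le h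
      rw [LinearMap.mem_ker, LinearMap.smul_apply] at hv ⊢
      rw [pow_add, mul_comm, mul_smul, hv, smul_zero]⟩
  let Q : ℕ → Submodule A (A ⧸ J) := fun n => LinearMap.range ((t ^ n) • (Submodule.mkQ J))
  let τ : Q N →ₗ[A] Q (N + 1) := (t • (Q N).subtype).codRestrict _ fun v => by
    obtain ⟨w, hw⟩ := v.2
    exact ⟨w, by
      rw [LinearMap.smul_apply, pow_succ', mul_smul]
      exact congrArg (t • ·) hw⟩
  have hτ : Function.Bijective τ := by
    refine ⟨(injective_iff_map_eq_zero _).2 fun v hv => ?_, fun v => ?_⟩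
    · obtain ⟨w, hw⟩ := v.2
      have h1 : t • v.1 = 0 := congrArg Subtype.val hv
      rw [← hw] at h1
      have h2 : w ∈ LinearMap.ker ((t ^ (N + 1)) • (Submodule.mkQ J)) := by
        rw [LinearMap.mem_ker, LinearMap.smul_apply, pow_succ', mul_smul]
        exact h1
      have h3 := (hN (N + 1) (by omega)).ge h2
      exact Subtype.ext (hw.symm.trans (LinearMap.mem_ker.1 h3))
    · obtain ⟨w, hw⟩ := v.2
      refine ⟨⟨_, w, rfl⟩, Subtype.ext ?_⟩
      rw [← hw]
      show t • ((t ^ N) • Submodule.mkQ J) w = _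
      rw [LinearMap.smul_apply, LinearMap.smul_apply, pow_succ', mul_smul]
  let S : ShortComplex (ModuleCat.{u} A) := ShortComplex.mk (ModuleCat.ofHom (Q (N + 1)).subtype)
    (qq (show J ≤ J ⊔ Ideal.span {t ^ (N + 1)} from le_sup_left)) (by
      ext v
      obtain ⟨w, hw⟩ := v.2
      show Submodule.mapQ J _ LinearMap.id le_sup_left v.1 = 0
      rw [← hw, LinearMap.smul_apply, Submodule.mkQ_apply, ← Submodule.Quotient.mk_smul,
        Submodule.mapQ_apply, LinearMap.id_apply, Submodule.Quotient.mk_eq_zero, smul_eq_mul]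
      exact Ideal.mem_sup_right (Ideal.mul_mem_right _ _ (Ideal.mem_span_singleton_self _)))
  have hS : S.ShortExact :=
    { exact := (ShortComplex.moduleCat_exact_iff _).2 fun v hv => by
        obtain ⟨b, rfl⟩ := Submodule.Quotient.mk_surjective _ v
        obtain ⟨j, hj, s, hs, hjs⟩ := Submodule.mem_sup.1 ((Submodule.Quotient.mk_eq_zero _).1 hv)
        obtain ⟨w, rfl⟩ := Ideal.mem_span_singleton'.1 hs
        refine ⟨⟨_, w, rfl⟩, ?_⟩
        show ((t ^ (N + 1)) • Submodule.mkQ J) w = Submodule.Quotient.mk b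
        rw [LinearMap.smul_apply, Submodule.mkQ_apply, ← Submodule.Quotient.mk_smul,
          Submodule.Quotient.eq, smul_eq_mul]
        rw [show (LinearMap.id : A →ₗ[A] A) b = b from rfl] at hjs
        rw [← hjs]
        simpa [mul_comm] using neg_mem hj
      mono_f := (ModuleCat.mono_iff_injective _).2 (Submodule.injective_subtype _)
      epi_g := (ModuleCat.epi_iff_surjective _).2 fun z => by
        obtain ⟨z, rfl⟩ := Submodule.Quotient.mk_surjective _ z
        exact ⟨Submodule.Quotient.mk z, rfl⟩ }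
  have h0 : (Abelian.Ext.mk₀ S.f).comp x (zero_add i) = 0 := by
    let τi : ModuleCat.of A (Q N) ≅ ModuleCat.of A (Q (N + 1)) :=
      (LinearEquiv.ofBijective τ hτ).toModuleIso
    have h1 : (Abelian.Ext.mk₀ (τi.hom ≫ S.f)).comp x (zero_add i) = 0 := by
      rw [show τi.hom ≫ S.f = t • ModuleCat.ofHom (Q N).subtype from rfl, Abelian.Ext.mk₀_smul,
        Abelian.Ext.smul_comp, ← Abelian.Ext.comp_smul, ht, Abelian.Ext.comp_zero]
    rw [← Iso.inv_hom_id_assoc τi S.f, ← Abelian.Ext.mk₀_comp_mk₀,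
      Abelian.Ext.comp_assoc_of_second_deg_zero, h1, Abelian.Ext.comp_zero]
  obtain ⟨y, hy⟩ := Abelian.Ext.contravariant_sequence_exact₂ hS _ x h0
  exact ⟨_, _, y, ⟨N + 1, Ideal.mem_sup_right (Ideal.mem_span_singleton_self _)⟩, hy⟩

/-- The devissage on the chains of `T`. -/
theorem dies (M : ℕ → Type u) [∀ n, AddCommGroup (M n)] [∀ n, Module A (M n)]
    (φ : ∀ k m : ℕ, m ≤ k → (M k →ₗ[A] M m))
    (hφ : ∀ (k l m : ℕ) (h₁ : m ≤ l) (h₂ : l ≤ k), φ k m (h₁.trans h₂) = φ l m h₁ ∘ₗ φ k l h₂)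
    (i : ℕ) (m' : ℕ → ℕ) (hm' : ∀ m, m ≤ m' m) :
    ∀ (n : ℕ) (T : Set (PrimeSpectrum A)), StableUnderSpecialization T →
      (∀ s : LTSeries T, s.length < n) →
      (∀ (p : PrimeSpectrum A), p ∈ T → ∀ (m k : ℕ) (h : m ≤ k), m' m ≤ k →
        (localCohomology (IsLocalRing.maximalIdeal (Localization.AtPrime p.asIdeal)) i).map
          (ModuleCat.ofHom (LocalizedModule.map p.asIdeal.primeCompl (φ k m h))) = 0) →
      ∀ (m k : ℕ) (h : m ≤ k), m'^[n] m ≤ k → ∀ J : Ideal A, mem T J →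
      ∀ ξ : Abelian.Ext.{u} (ModuleCat.of A (A ⧸ J)) (ModuleCat.of A (M k)) i,
        Dies T (ξ.comp (Abelian.Ext.mk₀ (ModuleCat.ofHom (φ k m h))) (add_zero i)) := by
  classical
  intro n
  induction n with
  | zero =>
    intro T _ hlen _ m k h _ J hJ ξ
    refine ⟨J, hJ, le_rfl, ?_⟩
    have hJT : J = ⊤ := by
      rw [← PrimeSpectrum.zeroLocus_empty_iff_eq_top, Set.eq_empty_iff_forall_notMem]
      exact fun p hp => absurd (hlen (RelSeries.singleton _ ⟨p, hJ hp⟩)) (Nat.not_lt_zero _)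
    have : Subsingleton (A ⧸ J) := Submodule.Quotient.subsingleton_iff.2 hJT
    rw [show qq (le_refl J) = 0 from ModuleCat.hom_ext (LinearMap.ext fun _ => Subsingleton.elim _ _),
      Abelian.Ext.mk₀_zero, Abelian.Ext.zero_comp]
  | succ n ih =>
    intro T hT hlen hloc m k h hk J hJ ξ
    rw [Function.iterate_succ_apply'] at hk
    let m₁ := m'^[n] m
    have h₁ : m ≤ m₁ := KillMap.le_iterate hm' n m
    have h₂ : m₁ ≤ k := (hm' m₁).trans hk
    let S := {p : PrimeSpectrum A | p ∈ PrimeSpectrum.zeroLocus (J : Set A) ∧ ∀ r ∈ T, r ≤ p → r = p}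
    have hmin : ∀ p ∈ S, p.asIdeal ∈ J.minimalPrimes := fun p hp => ⟨⟨p.isPrime, hp.1⟩,
      fun P hP hle => (congrArg PrimeSpectrum.asIdeal
        (hp.2 ⟨P, hP.1⟩ (hJ hP.2) hle)).ge⟩
    have hS : S.Finite := ((Ideal.finite_minimalPrimes_of_isNoetherianRing A J).preimage
      (fun p _ q _ h => PrimeSpectrum.ext h)).subset hmin
    choose N hN using fun p : hS.toFinset => exists_refine p.1 (φ k m₁ h₂) i
      (hloc p.1 (hJ (hS.mem_toFinset.1 p.2).1) m₁ k h₂ hk) J (hmin _ (hS.mem_toFinset.1 p.2)) ξ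
    let J₁ := J * ∏ p : hS.toFinset, p.1.asIdeal ^ N p
    have hJ₁ : mem T J₁ := by
      refine mem_mul hJ (Finset.prod_induction _ (mem T) (fun _ _ => mem_mul) ?_ fun p _ => ?_)
      · rw [mem, Ideal.one_eq_top, Submodule.top_coe, PrimeSpectrum.zeroLocus_univ]
        exact Set.empty_subset _
      · refine mem_pow (fun r hr => ?_) _
        exact hT ((PrimeSpectrum.le_iff_specializes _ _).1 hr) (hJ (hS.mem_toFinset.1 p.2).1)
    let x := (Abelian.Ext.mk₀ (qq (show J₁ ≤ J from Ideal.mul_le_left))).comp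
      (ξ.comp (Abelian.Ext.mk₀ (ModuleCat.ofHom (φ k m₁ h₂))) (add_zero i)) (zero_add i)
    let I : Ideal A := LinearMap.ker (LinearMap.toSpanSingleton A _ x)
    obtain ⟨t, htI, htS⟩ : ∃ t ∈ I, ∀ p ∈ S, t ∉ p.asIdeal := by
      rcases S.eq_empty_or_nonempty with hS0 | ⟨p₀, hp₀⟩
      · exact ⟨0, zero_mem I, fun p hp => absurd (hS0 ▸ hp) (Set.notMem_empty p)⟩
      by_contra hc
      push Not at hc
      have hsub : (I : Set A) ⊆ ⋃ p ∈ (↑hS.toFinset : Set (PrimeSpectrum A)), (p.asIdeal : Set A) :=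
        fun t ht => by
          obtain ⟨p, hp, hp'⟩ := hc t ht
          exact Set.mem_biUnion (hS.mem_toFinset.2 hp) hp'
      obtain ⟨p, hp, hle⟩ := (Ideal.subset_union_prime (f := PrimeSpectrum.asIdeal)
        (s := hS.toFinset) p₀ p₀ fun p _ _ _ => p.isPrime).1 hsub
      obtain ⟨t, ht, ht'⟩ := hN ⟨p, hp⟩ J₁ Ideal.mul_le_left
        (Ideal.mul_le_right.trans (Ideal.prod_le_inf.trans
          (Finset.inf_le (Finset.mem_univ (⟨p, hp⟩ : hS.toFinset)))))
      exact ht (hle (LinearMap.mem_ker.2 ht'))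
    obtain ⟨J₂, h₁₂, y, hty, hy⟩ := exists_eq_comp x t (LinearMap.mem_ker.1 htI)
    let T' : Set (PrimeSpectrum A) := {p | p ∈ T ∧ ∃ r ∈ T, r < p}
    have hT' : StableUnderSpecialization T' := fun p p' hs ⟨hp, r, hr, hrp⟩ =>
      ⟨hT hs hp, r, hr, hrp.trans_le ((PrimeSpectrum.le_iff_specializes _ _).2 hs)⟩
    have hJ₂ : mem T' J₂ := fun p hp => by
      have hpT : p ∈ T := hJ₁ (fun a ha => hp (h₁₂ ha))
      refine ⟨hpT, ?_⟩
      by_contra hc
      have hmax : ∀ r ∈ T, r ≤ p → r = p := fun r hr hrp =>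
        (hrp.lt_or_eq).resolve_left fun hlt => hc ⟨r, hr, hlt⟩
      obtain ⟨q, hqJ, hqp⟩ : ∃ q : PrimeSpectrum A, q ∈ PrimeSpectrum.zeroLocus (J : Set A) ∧
          q ≤ p := by
        rcases (PrimeSpectrum.zeroLocus_mul J (∏ p : hS.toFinset, p.1.asIdeal ^ N p)).le
          (show p ∈ PrimeSpectrum.zeroLocus ↑J₁ from fun a ha => hp (h₁₂ ha)) with h' | h'
        · exact ⟨p, h', le_rfl⟩
        · obtain ⟨q, -, hq⟩ := p.isPrime.prod_le.1 h'
          exact ⟨q.1, (hS.mem_toFinset.1 q.2).1, p.isPrime.le_of_pow_le hq⟩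
      rw [hmax q (hJ hqJ) hqp] at hqJ
      exact htS p ⟨hqJ, hmax⟩ (p.isPrime.radical_le_iff.2 hp hty)
    have hlen' : ∀ s : LTSeries T', s.length < n := fun s => by
      obtain ⟨-, r, hr, hrs⟩ := s.head.2
      let s' : LTSeries T := s.map (fun p => ⟨p.1, p.2.1⟩) fun a b hab => hab
      have := hlen (s'.cons ⟨r, hr⟩ (show (⟨r, hr⟩ : T) < s'.head from hrs))
      simp only [RelSeries.cons_length] at this
      exact Nat.lt_of_succ_lt_succ this
    obtain ⟨J₃, hJ₃, h₃, h0⟩ := ih T' hT' hlen' (fun p hp => hloc p hp.1) m m₁ h₁ le_rfl J₂ hJ₂ y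
    refine ⟨J₃ * J₁, mem_mul (fun p hp => (hJ₃ hp).1) hJ₁,
      Ideal.mul_le_right.trans Ideal.mul_le_left, ?_⟩
    have hφ' : (ξ.comp (Abelian.Ext.mk₀ (ModuleCat.ofHom (φ k m h))) (add_zero i)) =
        (ξ.comp (Abelian.Ext.mk₀ (ModuleCat.ofHom (φ k m₁ h₂))) (add_zero i)).comp
          (Abelian.Ext.mk₀ (ModuleCat.ofHom (φ m₁ m h₁))) (add_zero i) := by
      rw [Abelian.Ext.comp_assoc_of_third_deg_zero, Abelian.Ext.mk₀_comp_mk₀, hφ k m₁ m h₁ h₂]
      rfl
    rw [← qq_comp (J₁ := J₃ * J₁) Ideal.mul_le_right (show J₁ ≤ J from Ideal.mul_le_left),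
      ← Abelian.Ext.mk₀_comp_mk₀, Abelian.Ext.comp_assoc_of_second_deg_zero, hφ',
      ← Abelian.Ext.comp_assoc_of_third_deg_zero (Abelian.Ext.mk₀ (qq _)) (ξ.comp _ _)]
    show (Abelian.Ext.mk₀ _).comp (x.comp _ _) _ = 0
    rw [← hy, Abelian.Ext.comp_assoc_of_third_deg_zero,
      ← Abelian.Ext.comp_assoc_of_second_deg_zero, Abelian.Ext.mk₀_comp_mk₀, qq_comp,
      ← qq_comp (J₁ := J₃ * J₁) Ideal.mul_le_left h₃, ← Abelian.Ext.mk₀_comp_mk₀,
      Abelian.Ext.comp_assoc_of_second_deg_zero, h0, Abelian.Ext.comp_zero]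

omit [IsNoetherianRing A] in
/-- The map on `H^i_T` vanishes. -/
theorem map_eq_zero {M N : Type u} [AddCommGroup M] [Module A M] [AddCommGroup N] [Module A N]
    (f : M →ₗ[A] N) (i : ℕ)
    (h : ∀ J : Ideal A, mem T J →
      ∀ ξ : Abelian.Ext.{u} (ModuleCat.of A (A ⧸ J)) (ModuleCat.of A M) i,
        Dies T (ξ.comp (Abelian.Ext.mk₀ (ModuleCat.ofHom f)) (add_zero i))) :
    (localCohomology.ofDiagram (Dual2.idealsInDiagram T) i).map (ModuleCat.ofHom f) = 0 := by
  let e₀ : localCohomology.ofDiagram.{u, u} (Dual2.idealsInDiagram T) i ≅ colimExt (sys T) i :=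
    HasColimit.isoOfNatIso (Functor.isoWhiskerLeft (sys T) (LocalCoh.extIso A i))
  apply (cancel_mono (e₀.hom.app (ModuleCat.of A N))).1
  rw [e₀.hom.naturality, zero_comp]
  refine (congrArg (e₀.hom.app (ModuleCat.of A M) ≫ ·) ?_).trans comp_zero
  refine colimExt.hom_ext _ fun j => ?_
  ext α
  obtain ⟨J', hJ', hle, e⟩ := h j.unop.obj j.unop.property α
  refine (colimExt.map_ι_apply _ _ _ _ _).trans ?_
  exact (colimExt.ι_eq_zero_iff _ _ _ _ _).2
    ⟨idx J' hJ', arr j.unop.property hJ' hle, e⟩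

end Groth.Agent.Lib.ProZero.Pointwise
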