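import Groth.Agent.Lib.ProZero.Final
import Groth.Agent.Lib.LocalCoh.Basic
import Groth.Prelude.Def_Formal2

/-!
# Consequences for the systems `H^i_T(M/I^n M)`
-/

universe u

open CategoryTheory CategoryTheory.Limits Opposite

attribute [local instance] HasDerivedCategory.standard

namespace Groth.Agent.Lib.ProZero.Seq

open Groth.Agent.Lib.LocalCoh Groth.Agent.Lib.RGamma Groth.Agent.Lib.ProZero.Complex

variable {A : Type u} [CommRing A] (T : Set (PrimeSpectrum A))

/-- `HT` is a `colimExt`. -/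
noncomputable def htIso (i : ℕ) :
    colimExt (HDT.sys T) i ≅ localCohomology.ofDiagram.{u, u} (Dual2.idealsInDiagram T) i :=
  (HasColimit.isoOfNatIso (Functor.isoWhiskerLeft (HDT.sys T) (LocalCoh.extIso A i))).symm

/-- The long exact sequence of local cohomology with supports in `T`. -/
noncomputable def htDeltaSeq :
    DeltaSeq fun i => localCohomology.ofDiagram.{u, u} (Dual2.idealsInDiagram T) i :=
  (colimExt.deltaSeq (HDT.sys T)).ofIso (htIso T)

variable {T} (I : Ideal A) (M : Type u) [AddCommGroup M] [Module A M]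

/-- The map on `HT` of a linear map. -/
noncomputable abbrev Hm (T : Set (PrimeSpectrum A)) (i : ℕ) {N N' : Type u} [AddCommGroup N]
    [Module A N] [AddCommGroup N'] [Module A N'] (f : N →ₗ[A] N') :
    Dual2.HT T i N →ₗ[A] Dual2.HT T i N' :=
  ((localCohomology.ofDiagram.{u, u} (Dual2.idealsInDiagram T) i).map (ModuleCat.ofHom f)).hom

lemma Hm_comp (i : ℕ) {N N' N'' : Type u} [AddCommGroup N] [Module A N] [AddCommGroup N']
    [Module A N'] [AddCommGroup N''] [Module A N''] (f : N →ₗ[A] N') (g : N' →ₗ[A] N'')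
    (x : Dual2.HT T i N) : Hm T i g (Hm T i f x) = Hm T i (g ∘ₗ f) x :=
  (ConcreteCategory.congr_hom ((localCohomology.ofDiagram.{u, u} (Dual2.idealsInDiagram T) i).map_comp
    (ModuleCat.ofHom f) (ModuleCat.ofHom g)) x).symm

lemma Hm_id (i : ℕ) {N : Type u} [AddCommGroup N] [Module A N] (x : Dual2.HT T i N) :
    Hm T i (LinearMap.id : N →ₗ[A] N) x = x :=
  ConcreteCategory.congr_hom ((localCohomology.ofDiagram.{u, u} (Dual2.idealsInDiagram T) i).map_id
    (ModuleCat.of A N)) x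

/-- An element killing the module kills its local cohomology. -/
lemma smul_eq_zero_of_killed {N : Type u} [AddCommGroup N] [Module A N] {a : A}
    (ha : ∀ z : N, a • z = 0) (i : ℕ) (x : Dual2.HT T i N) : a • x = 0 := by
  obtain ⟨e⟩ := HDT.nonempty_HT_equiv T i N
  refine e.symm.injective ?_
  rw [map_smul, map_zero]
  exact HDT.smul_eq_zero_of_smul_id
    (DMod.HomSupp.smul_id_shift (DMod.HomSupp.smul_id_inD ha) (i : ℤ)) _

/-- `0 → I^n M → M → M/I^n M → 0`. -/
abbrev ses (n : ℕ) : ShortComplex (ModuleCat.{u} A) :=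
  ShortComplex.mk (ModuleCat.ofHom (pw I M n).subtype) (ModuleCat.ofHom (pw I M n).mkQ)
    (ModuleCat.hom_ext (LinearMap.exact_subtype_mkQ (pw I M n)).linearMap_comp_eq_zero)

lemma ses_shortExact (n : ℕ) : (ses I M n).ShortExact where
  exact := (ShortComplex.ShortExact.moduleCat_exact_iff_function_exact _).2
    (LinearMap.exact_subtype_mkQ (pw I M n))
  mono_f := (ModuleCat.mono_iff_injective _).2 (pw I M n).injective_subtype
  epi_g := (ModuleCat.epi_iff_surjective _).2 (pw I M n).mkQ_surjective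

/-- The connecting map. -/
noncomputable def conn (T : Set (PrimeSpectrum A)) (i n : ℕ) :
    Dual2.HT T i (M ⧸ pw I M n) →ₗ[A] Dual2.HT T (i + 1) (pw I M n) :=
  ((htDeltaSeq T).δ (ses_shortExact I M n) i).hom

lemma exact_f_g (i n : ℕ) :
    Function.Exact (Hm T i (pw I M n).subtype) (Hm T i (pw I M n).mkQ) :=
  (htDeltaSeq T).exact₂ (ses_shortExact I M n) i

lemma exact_g_δ (i n : ℕ) : Function.Exact (Hm T i (pw I M n).mkQ) (conn I M T i n) :=
  (htDeltaSeq T).exact₃ (ses_shortExact I M n) i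

/-- The transition map. -/
abbrev tr {n m : ℕ} (h : n ≤ m) : (M ⧸ pw I M m) →ₗ[A] M ⧸ pw I M n :=
  Submodule.factor (Submodule.smul_mono_left (Ideal.pow_le_pow_right h))

lemma tr_mkQ {n m : ℕ} (h : n ≤ m) : tr I M h ∘ₗ (pw I M m).mkQ = (pw I M n).mkQ := rfl

lemma conn_natural (i : ℕ) {n m : ℕ} (h : n ≤ m) (x : Dual2.HT T i (M ⧸ pw I M m)) :
    conn I M T i n (Hm T i (tr I M h) x) = Hm T (i + 1) (incl I M h) (conn I M T i m x) := by
  let φ : ses I M m ⟶ ses I M n :=
    { τ₁ := ModuleCat.ofHom (incl I M h)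
      τ₂ := 𝟙 _
      τ₃ := ModuleCat.ofHom (tr I M h)
      comm₁₂ := rfl
      comm₂₃ := rfl }
  exact ConcreteCategory.congr_hom
    ((htDeltaSeq T).naturality (ses_shortExact I M m) (ses_shortExact I M n) φ i) x

variable {I M} {s : ℕ}
  (hpro : ∀ n, ∃ (m : ℕ) (h : n ≤ m), ∀ i ≤ s + 1, ∀ x : Dual2.HT T i (pw I M m),
    Hm T i (incl I M h) x = 0)

include hpro

/-- The map to the limit is injective. -/
theorem exists_injective : ∃ m₀, ∀ n, m₀ ≤ n → ∀ i ≤ s + 1, ∀ x : Dual2.HT T i M,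
    Hm T i (pw I M n).mkQ x = 0 → x = 0 := by
  obtain ⟨m, h, hm⟩ := hpro 0
  refine ⟨m, fun n hn i hi x hx => ?_⟩
  obtain ⟨y, rfl⟩ := (exact_f_g I M i n x).1 hx
  have e : (pw I M n).subtype = (pw I M 0).subtype ∘ₗ (incl I M h ∘ₗ incl I M hn) := rfl
  rw [e, ← Hm_comp, ← Hm_comp, hm i hi, map_zero]

/-- The image of the transition maps lies in the image of `H^i_T(M)`. -/
theorem exists_mem_range (n : ℕ) : ∃ (k : ℕ) (h : n ≤ k), ∀ i ≤ s,
    ∀ x : Dual2.HT T i (M ⧸ pw I M k), ∃ y, Hm T i (pw I M n).mkQ y = Hm T i (tr I M h) x := by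
  obtain ⟨m, h, hm⟩ := hpro n
  refine ⟨m, h, fun i hi x => (exact_g_δ I M i n _).1 ?_⟩
  rw [conn_natural, hm (i + 1) (by omega)]

/-- Some power of `I` annihilates. -/
theorem exists_annihilated : ∃ n : ℕ, ∀ i ≤ s + 1, ∀ a ∈ I ^ n, ∀ x : Dual2.HT T i M,
    a • x = 0 := by
  obtain ⟨m, hm⟩ := exists_injective hpro
  refine ⟨m, fun i hi a ha x => hm m le_rfl i hi _ ?_⟩
  rw [map_smul]
  refine smul_eq_zero_of_killed (N := M ⧸ pw I M m) (fun z => ?_) i _
  obtain ⟨z, rfl⟩ := Submodule.Quotient.mk_surjective _ z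
  rw [← Submodule.Quotient.mk_smul, Submodule.Quotient.mk_eq_zero]
  exact Submodule.smul_mem_smul ha trivial

/-- Compatible families come from `H^i_T(M)`. -/
theorem exists_lift (i : ℕ) (hi : i ≤ s) (y : ∀ n, Dual2.HT T i (M ⧸ pw I M n))
    (hy : ∀ {n m : ℕ} (h : n ≤ m), Hm T i (tr I M h) (y m) = y n) :
    ∃ x, ∀ n, Hm T i (pw I M n).mkQ x = y n := by
  have hlift : ∀ n, ∃ x, Hm T i (pw I M n).mkQ x = y n := fun n => by
    obtain ⟨k, h, hk⟩ := exists_mem_range hpro n
    obtain ⟨z, hz⟩ := hk i hi (y k)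
    exact ⟨z, hz.trans (hy h)⟩
  choose x hx using hlift
  obtain ⟨m, hm⟩ := exists_injective hpro
  refine ⟨x m, fun n => ?_⟩
  have h1 : x (max n m) = x m := by
    rw [← sub_eq_zero]
    refine hm m le_rfl i (by omega) _ ?_
    rw [map_sub, hx m, ← tr_mkQ I M (le_max_right n m), ← Hm_comp, hx, hy, sub_self]
  rw [← h1, ← tr_mkQ I M (le_max_left n m), ← Hm_comp, hx, hy]

omit hpro in
theorem tr_quotPowTrans (I : Ideal A) (M : Type u) [AddCommGroup M] [Module A M] {n m : ℕ}
    (h : n ≤ m) :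
    tr I M (show n + 1 ≤ m + 1 + 1 by omega) =
      tr I M (Nat.add_le_add_right h 1) ∘ₗ Formal2.quotPowTrans A I M m := by
  refine LinearMap.ext fun x => ?_
  obtain ⟨x, rfl⟩ := Submodule.Quotient.mk_surjective _ x
  simp [Formal2.quotPowTrans, Submodule.factor, Submodule.mapQ_apply]

omit hpro in
theorem tr_tr (I : Ideal A) (M : Type u) [AddCommGroup M] [Module A M] {a b c : ℕ}
    (h : a ≤ b) (h' : b ≤ c) : tr I M h ∘ₗ tr I M h' = tr I M (h.trans h') := by
  refine LinearMap.ext fun x => ?_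
  obtain ⟨x, rfl⟩ := Submodule.Quotient.mk_surjective _ x
  simp [Submodule.factor, Submodule.mapQ_apply]

omit hpro in
/-- Compatibility of the transition maps from that of successive ones. -/
theorem compat_of_succ (F : ModuleCat.{u} A ⥤ ModuleCat.{u} A)
    (y : ∀ n, F.obj (ModuleCat.of A (Formal2.quotPow A I M n)))
    (hy : ∀ n, F.map (ModuleCat.ofHom (Formal2.quotPowTrans A I M n)) (y (n + 1)) = y n) {n m : ℕ}
    (h : n ≤ m) : F.map (ModuleCat.ofHom (tr I M ((Nat.add_le_add_right h 1)))) (y m) = y n := by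
  induction m, h using Nat.le_induction with
  | base =>
    have e : ModuleCat.ofHom (tr I M ((Nat.add_le_add_right (le_refl n) 1))) =
        𝟙 (ModuleCat.of A (Formal2.quotPow A I M n)) :=
      ModuleCat.hom_ext (Submodule.linearMap_qext _ rfl)
    rw [e, F.map_id]
    rfl
  | succ m h ih =>
    have e : ModuleCat.ofHom (tr I M (show n + 1 ≤ m + 1 + 1 by omega)) =
        ModuleCat.ofHom (Formal2.quotPowTrans A I M m) ≫
          ModuleCat.ofHom (tr I M ((Nat.add_le_add_right h 1))) :=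
      ModuleCat.hom_ext (tr_quotPowTrans I M h)
    rw [e, F.map_comp]
    show F.map _ (F.map _ (y (m + 1))) = y n
    rw [hy m, ih]

end Groth.Agent.Lib.ProZero.Seq
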